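import Mathlib
import Cfsg.Agent.H934.RowOrb
import Cfsg.Agent.H416.Arith

/-!
# The indices of the maximal parabolic subgroups of `E₈(q)`

`KK q = ∏_{d ∈ {2, 8, 12, 20, 24, 30}} (q^d - 1)/(q - 1)`; every prime divisor of `KK q` divides the index of every
maximal parabolic subgroup (`dvd_idx`).
-/

set_option autoImplicit false

namespace Cfsg.Agent.H505.Cop.E8Num

open Cfsg.Agent.H35.PoinNum

/-- `q ^ d - 1` over `q - 1` -/
def br (d q : ℕ) : ℕ := ∑ t ∈ Finset.range d, q ^ t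

theorem br_mul {q : ℕ} (hq : 1 ≤ q) (d : ℕ) : br d q * (q - 1) = q ^ d - 1 := geom_sum_mul_of_one_le hq d

def dK : List ℕ := [2, 8, 12, 20, 24, 30]

def KK (q : ℕ) : ℕ := (dK.map fun d => br d q).prod

/-- a prime divisor of `(q^d - 1)/(q-1)` divides `Φ_m(q)` for a divisor `m ≠ 1` of `d` -/
theorem exists_E {q d s : ℕ} (hq : 2 ≤ q) (hd : 0 < d) (hs : s.Prime) (h : s ∣ br d q) :
    ∃ m, 2 ≤ m ∧ m ∣ d ∧ (s : ℤ) ∣ E q m := by
  have h1 : ((br d q : ℕ) : ℤ) = ∏ m ∈ d.divisors.erase 1, E q m := by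
    have h2 : ((br d q : ℕ) : ℤ) * E q 1 = (∏ m ∈ d.divisors.erase 1, E q m) * E q 1 := by
      rw [Finset.prod_erase_mul _ _ (Nat.one_mem_divisors.2 hd.ne')]
      have h3 := br_mul (show 1 ≤ q by omega) d
      have h4 : ((br d q * (q - 1) : ℕ) : ℤ) = ((q ^ d - 1 : ℕ) : ℤ) := by rw [h3]
      have h5 : 1 ≤ q ^ d := Nat.one_le_pow _ _ (by omega)
      rw [Nat.cast_mul, Nat.cast_sub h5, Nat.cast_sub (by omega : 1 ≤ q), Nat.cast_pow, Nat.cast_one] at h4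
      rw [E_one, h4]
      have h6 := congrArg (fun P : Polynomial ℤ => P.eval (q : ℤ)) (Polynomial.prod_cyclotomic_eq_X_pow_sub_one hd ℤ)
      simp only [Polynomial.eval_prod, Polynomial.eval_sub, Polynomial.eval_pow, Polynomial.eval_X,
        Polynomial.eval_one] at h6
      exact h6.symm
    exact mul_right_cancel₀ (E_pos hq 1).ne' h2
  have h2 : (s : ℤ) ∣ ∏ m ∈ d.divisors.erase 1, E q m := by
    rw [← h1]
    exact_mod_cast h
  obtain ⟨m, hm, h3⟩ := ((Nat.prime_iff_prime_int.1 hs).dvd_finsetProd_iff _).1 h2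
  rw [Finset.mem_erase, Nat.mem_divisors] at hm
  have hm0 : m ≠ 0 := by
    rintro rfl
    exact hd.ne' (Nat.eq_zero_of_zero_dvd hm.2.1)
  exact ⟨m, by omega, hm.2.1, h3⟩

/-- the primes of `KK q` divide the index -/
theorem dvd_idx {q : ℕ} (hq : 2 ≤ q) {N : ℕ} {dS dJ : List ℕ} (hS : ∀ d ∈ dS, 0 < d ∧ d < N)
    (hJ : ∀ d ∈ dJ, 0 < d ∧ d < N) {idx : ℕ} (hI : idx * pr q dJ = pr q dS)
    (hle : ∀ m < N, cnt dJ m ≤ cnt dS m)
    (hchk : ∀ d ∈ dK, ∀ m ∈ List.range N, 2 ≤ m → m ∣ d → cnt dJ m < cnt dS m) (hN : ∀ d ∈ dK, 0 < d ∧ d < N)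
    {s : ℕ} (hs : s.Prime) (h : s ∣ KK q) : s ∣ idx := by
  obtain ⟨x, hx, h1⟩ := (Prime.dvd_prod_iff hs.prime).1 h
  obtain ⟨d, hd, rfl⟩ := List.mem_map.1 hx
  obtain ⟨m, hm, hmd, h2⟩ := exists_E hq (hN d hd).1 hs h1
  have hmN : m < N := lt_of_le_of_lt (Nat.le_of_dvd (hN d hd).1 hmd) (hN d hd).2
  have h3 := hchk d hd m (List.mem_range.2 hmN) hm hmd
  have h4 := eq_prod hq hS hJ hI hle
  have h5 : (s : ℤ) ∣ (idx : ℤ) := by
    rw [h4]
    refine dvd_trans ?_ (Finset.dvd_prod_of_mem _ (Finset.mem_range.2 hmN))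
    exact dvd_pow h2 (by omega)
  exact_mod_cast h5

end Cfsg.Agent.H505.Cop.E8Num
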