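import Mathlib
import Cfsg.Agent.H505.Cop.E8Num
import Cfsg.Agent.H436.Ppd

/-!
# Primitive primes and indices of parabolic subgroups
-/

set_option autoImplicit false

namespace Cfsg.Agent.H505.Cop.E8Num

open Cfsg.Agent.H35.PoinNum Cfsg.Agent.H436

/-- a prime for which `q` has multiplicative order `e` divides `Φ_e(q)` -/
theorem prim_dvd_E {q e s : ℕ} (hq : 2 ≤ q) (he : 2 ≤ e) (h : Prim q e s) : (s : ℤ) ∣ E q e := by
  have h1 : s ∣ br e q := by
    have h2 := (h.dvd_iff e).2 dvd_rfl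
    rw [← br_mul (by omega : 1 ≤ q)] at h2
    refine (h.prime.dvd_mul.1 h2).resolve_right fun h3 => ?_
    rw [← pow_one q, h.dvd_iff] at h3
    have := Nat.le_of_dvd one_pos h3
    omega
  obtain ⟨m, hm, hmd, h2⟩ := exists_E hq (by omega) h.prime h1
  have h3 : s ∣ q ^ m - 1 := by
    have h4 : (E q m) ∣ (((q ^ m - 1 : ℕ) : ℕ) : ℤ) := by
      have h5 : 1 ≤ q ^ m := Nat.one_le_pow _ _ (by omega)
      have h6 := congrArg (fun P : Polynomial ℤ => P.eval (q : ℤ))
        (Polynomial.prod_cyclotomic_eq_X_pow_sub_one (show 0 < m by omega) ℤ)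
      simp only [Polynomial.eval_prod, Polynomial.eval_sub, Polynomial.eval_pow, Polynomial.eval_X,
        Polynomial.eval_one] at h6
      rw [Nat.cast_sub h5, Nat.cast_pow, Nat.cast_one, ← h6]
      exact Finset.dvd_prod_of_mem (fun i => (Polynomial.cyclotomic i ℤ).eval (q : ℤ))
        (Nat.mem_divisors.2 ⟨dvd_rfl, by omega⟩)
    exact_mod_cast h2.trans h4
  rw [h.dvd_iff] at h3
  rwa [Nat.dvd_antisymm h3 hmd]

/-- a cyclotomic factor which is missing in the Levi subgroup divides the index -/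
theorem dvd_idx_of_E {q : ℕ} (hq : 2 ≤ q) {N : ℕ} {dS dJ : List ℕ} (hS : ∀ d ∈ dS, 0 < d ∧ d < N)
    (hJ : ∀ d ∈ dJ, 0 < d ∧ d < N) {idx : ℕ} (hI : idx * pr q dJ = pr q dS)
    (hle : ∀ m < N, cnt dJ m ≤ cnt dS m) {e s : ℕ} (he : 2 ≤ e) (heN : e < N) (hlt : cnt dJ e < cnt dS e)
    (h : Prim q e s) : s ∣ idx := by
  have h4 := eq_prod hq hS hJ hI hle
  have h5 : (s : ℤ) ∣ (idx : ℤ) := by
    rw [h4]
    refine dvd_trans ?_ (Finset.dvd_prod_of_mem _ (Finset.mem_range.2 heN))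
    exact dvd_pow (prim_dvd_E hq he h) (by omega)
  exact_mod_cast h5

end Cfsg.Agent.H505.Cop.E8Num
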