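import Mathlib
import Cfsg.Agent.H505.Cop.E67Num
import Cfsg.Agent.H505.Cop.E8Par

/-!
# The indices of the maximal parabolic subgroups of `E₇(q)`

`idx_i` : `|G : P_i| * pr q dJ_i = pr q [2, 6, 8, 10, 12, 14, 18]`.
-/

set_option autoImplicit false
set_option linter.unusedSimpArgs false

namespace Cfsg.Agent.H505.Cop.E7Num

open CoxeterSystem Cfsg.Agent.ChevalleyStructure.CoxeterGeom Cfsg.Agent.Tits.Roots Cfsg.Agent.Tits.Core
  Cfsg.Agent.Tits.Exchange Cfsg.Agent.Nodes.Reps Cfsg.Agent.Nodes.BNOf Cfsg.Agent.Nodes.StabComb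
  Cfsg.Agent.Nodes.Bruhat Cfsg.Agent.Nodes.OppDec Cfsg.Agent.Nodes.LeviDec Cfsg.Agent.Nodes.NormalForm
open Cfsg.Lie Cfsg.Agent.ChevalleyStructure Cfsg.Agent.H35.ExcIdx Cfsg.Agent.H35.PoinNum
  Cfsg.Agent.Nodes.RGDChev Cfsg.Agent.ChevalleyStructure.CoxeterGeomTypes Cfsg.Agent.ChevalleyStructure.RootVec
  Cfsg.Agent.ChevalleyStructure.NPerm Cfsg.Agent.H934.RowOrb
open Cfsg.Agent.H505.Cop.E8Num (br br_mul br_6 br_8 br_10 br_12 br_12' br_18 FA_eq)

universe u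

def AM : List (List ℤ) := [[2, 0, -1, 0, 0, 0, 0], [0, 2, 0, -1, 0, 0, 0], [-1, 0, 2, -1, 0, 0, 0], [0, -1, -1, 2, -1, 0, 0], [0, 0, 0, -1, 2, -1, 0], [0, 0, 0, 0, -1, 2, -1], [0, 0, 0, 0, 0, -1, 2]]

def AE (i j : Fin 7) : ℤ := (AM.getD i []).getD j 0

theorem cartan_eq : cartanOf chevE7 7 = AE := by
  funext i j
  revert i j
  decide +kernel

def LD6 : List (List (Fin 7)) := [[], [6], [5, 6], [4, 5, 6], [3, 4, 5, 6], [1, 3, 4, 5, 6], [2, 3, 4, 5, 6], [2, 1, 3, 4, 5, 6], [3, 2, 1, 3, 4, 5, 6], [4, 3, 2, 1, 3, 4, 5, 6], [5, 4, 3, 2, 1, 3, 4, 5, 6], [6, 5, 4, 3, 2, 1, 3, 4, 5, 6]]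

def LD5 : List (List (Fin 7)) := [[], [5], [4, 5], [3, 4, 5], [1, 3, 4, 5], [2, 3, 4, 5], [2, 1, 3, 4, 5], [3, 2, 1, 3, 4, 5], [4, 3, 2, 1, 3, 4, 5], [5, 4, 3, 2, 1, 3, 4, 5]]

def LD4 : List (List (Fin 7)) := [[], [4], [3, 4], [1, 3, 4], [2, 3, 4], [2, 1, 3, 4], [3, 2, 1, 3, 4], [4, 3, 2, 1, 3, 4]]

def LD5x : List (List (Fin 7)) := [[], [0], [2, 0], [3, 2, 0], [1, 3, 2, 0], [4, 3, 2, 0], [4, 1, 3, 2, 0], [3, 4, 1, 3, 2, 0], [2, 3, 4, 1, 3, 2, 0], [0, 2, 3, 4, 1, 3, 2, 0]]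

def LD4x : List (List (Fin 7)) := [[], [2], [3, 2], [1, 3, 2], [4, 3, 2], [4, 1, 3, 2], [3, 4, 1, 3, 2], [2, 3, 4, 1, 3, 2]]

def LE6 : List (List (Fin 7)) := [[], [0], [2, 0], [3, 2, 0], [1, 3, 2, 0], [4, 3, 2, 0], [4, 1, 3, 2, 0], [5, 4, 3, 2, 0], [3, 4, 1, 3, 2, 0], [5, 4, 1, 3, 2, 0], [2, 3, 4, 1, 3, 2, 0], [5, 3, 4, 1, 3, 2, 0], [0, 2, 3, 4, 1, 3, 2, 0], [5, 2, 3, 4, 1, 3, 2, 0], [4, 5, 3, 4, 1, 3, 2, 0], [5, 0, 2, 3, 4, 1, 3, 2, 0], [4, 5, 2, 3, 4, 1, 3, 2, 0], [4, 5, 0, 2, 3, 4, 1, 3, 2, 0], [3, 4, 5, 2, 3, 4, 1, 3, 2, 0], [3, 4, 5, 0, 2, 3, 4, 1, 3, 2, 0], [1, 3, 4, 5, 2, 3, 4, 1, 3, 2, 0], [1, 3, 4, 5, 0, 2, 3, 4, 1, 3, 2, 0], [2, 3, 4, 5, 0, 2, 3, 4, 1, 3, 2, 0], [2, 1, 3, 4, 5, 0, 2, 3, 4, 1, 3, 2, 0], [3, 2, 1, 3, 4, 5, 0, 2, 3, 4, 1, 3, 2, 0], [4, 3, 2, 1, 3, 4, 5, 0, 2, 3, 4, 1, 3, 2, 0], [5, 4, 3, 2, 1, 3, 4, 5, 0, 2, 3, 4, 1, 3, 2, 0]]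

theorem orbD6 : OrbOK AE [1, 2, 3, 4, 5, 6] 6 LD6 := by constructor <;> decide +kernel

theorem orbD5 : OrbOK AE [1, 2, 3, 4, 5] 5 LD5 := by constructor <;> decide +kernel

theorem orbD4 : OrbOK AE [1, 2, 3, 4] 4 LD4 := by constructor <;> decide +kernel

theorem orbD5x : OrbOK AE [0, 1, 2, 3, 4, 6] 0 LD5x := by constructor <;> decide +kernel

theorem orbD4x : OrbOK AE [1, 2, 3, 4, 6] 2 LD4x := by constructor <;> decide +kernel

theorem orbE6 : OrbOK AE [0, 1, 2, 3, 4, 5] 0 LE6 := by constructor <;> decide +kernel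

theorem sum_pow (L : List (List (Fin 7))) (q : ℕ) :
    (L.map fun ω => (ω.map fun _ => q).prod).sum = ((L.map List.length).map fun n => q ^ n).sum := by
  rw [List.map_map]
  congr 1
  refine List.map_congr_left fun ω _ => ?_
  rw [Function.comp_apply, List.map_const', List.prod_replicate]

theorem sum_D6 (q : ℕ) : (LD6.map fun ω => (ω.map fun _ => q).prod).sum = (1 + q ^ 5) * br 6 q := by
  rw [sum_pow, show LD6.map List.length = [0, 1, 2, 3, 4, 5, 5, 6, 7, 8, 9, 10] from by decide +kernel]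
  simp only [List.map_cons, List.map_nil, List.sum_cons, List.sum_nil, br, Finset.sum_range_succ, Finset.sum_range_zero]
  ring

theorem sum_D5 (q : ℕ) : (LD5.map fun ω => (ω.map fun _ => q).prod).sum = (1 + q ^ 4) * br 5 q := by
  rw [sum_pow, show LD5.map List.length = [0, 1, 2, 3, 4, 4, 5, 6, 7, 8] from by decide +kernel]
  simp only [List.map_cons, List.map_nil, List.sum_cons, List.sum_nil, br, Finset.sum_range_succ, Finset.sum_range_zero]
  ring

theorem sum_D4 (q : ℕ) : (LD4.map fun ω => (ω.map fun _ => q).prod).sum = (1 + q ^ 3) * br 4 q := by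
  rw [sum_pow, show LD4.map List.length = [0, 1, 2, 3, 3, 4, 5, 6] from by decide +kernel]
  simp only [List.map_cons, List.map_nil, List.sum_cons, List.sum_nil, br, Finset.sum_range_succ, Finset.sum_range_zero]
  ring

theorem sum_D5x (q : ℕ) : (LD5x.map fun ω => (ω.map fun _ => q).prod).sum = (1 + q ^ 4) * br 5 q := by
  rw [sum_pow, show LD5x.map List.length = [0, 1, 2, 3, 4, 4, 5, 6, 7, 8] from by decide +kernel]
  simp only [List.map_cons, List.map_nil, List.sum_cons, List.sum_nil, br, Finset.sum_range_succ, Finset.sum_range_zero]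
  ring

theorem sum_D4x (q : ℕ) : (LD4x.map fun ω => (ω.map fun _ => q).prod).sum = (1 + q ^ 3) * br 4 q := by
  rw [sum_pow, show LD4x.map List.length = [0, 1, 2, 3, 3, 4, 5, 6] from by decide +kernel]
  simp only [List.map_cons, List.map_nil, List.sum_cons, List.sum_nil, br, Finset.sum_range_succ, Finset.sum_range_zero]
  ring

theorem sum_E6 (q : ℕ) : (LE6.map fun ω => (ω.map fun _ => q).prod).sum = (1 + q ^ 4 + q ^ 8) * br 9 q := by
  rw [sum_pow, show LE6.map List.length = [0, 1, 2, 3, 4, 4, 5, 5, 6, 6, 7, 7, 8, 8, 8, 9, 9, 10, 10, 11, 11, 12, 12, 13, 14, 15, 16] from by decide +kernel]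
  simp only [List.map_cons, List.map_nil, List.sum_cons, List.sum_nil, br, Finset.sum_range_succ, Finset.sum_range_zero]
  ring

section Par

variable {K : Type u} [Field K] [Fintype K] {r f : ℕ} (hr : r.Prime) (hf : f ≠ 0)
  (hK : Fintype.card K = r ^ f) [CharP K r]

local notation "PPP" J => PJ CoxeterMatrix.E₇.toCoxeterSystem hpE7.isCartan (TT chevE7 K) (XX chevE7 7 K) J

local notation "BBB" => RGD.B CoxeterMatrix.E₇.toCoxeterSystem hpE7.isCartan (TT chevE7 K) (XX chevE7 7 K)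

include hr hf hK in
theorem idx_of {J : Set (Fin 7)} {N : ℕ} (hN : Nat.card ↥(PPP J) = N * Nat.card ↥(BBB)) :
    (PPP J).index * N * (r ^ f - 1) ^ 7 = pr (r ^ f) [2, 6, 8, 10, 12, 14, 18] := by
  refine index_split hpE7 K hr hf hK CoxeterMatrix.E₇.toCoxeterSystem (d := Nat.gcd 2 (r ^ f - 1))
    (not_dvd_of_dvd hr hf (Nat.gcd_dvd_right _ _)) ?_ ⟨f * 63, ?_⟩
    (not_dvd_pr hr hf _ (by simp)) hN
  · rw [← hK]; exact Cfsg.Agent.S1035.result rfl (chevE7, Nat.gcd 2 (Fintype.card K - 1)) (by simp)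
  · have h3 := Cfsg.Agent.S1064.result hK
    rw [pow_mul]
    simp only [pr_cons, pr_nil]
    rw [h3]
    ring

include hr hf hK in
theorem idx_of' {J : Set (Fin 7)} {N : ℕ} (hN : Nat.card ↥(PPP J) = N * Nat.card ↥(BBB)) {dJ : List ℕ}
    (h : N * (r ^ f - 1) ^ 7 = pr (r ^ f) dJ) :
    (PPP J).index * pr (r ^ f) dJ = pr (r ^ f) [2, 6, 8, 10, 12, 14, 18] := by
  rw [← idx_of hr hf hK hN, ← h, mul_assoc]

theorem hR [Fact r.Prime] : RGD CoxeterMatrix.E₇.toCoxeterSystem hpE7.isCartan r (TT chevE7 K)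
    (fun i => (⟨nn hpE7 K i, nn_mem_group hpE7 i⟩ : ↥(chevE7.group K))) (XX chevE7 7 K) :=
  rgd (K := K) hpE7 CoxeterMatrix.E₇.toCoxeterSystem r

include hK in
omit [CharP K r] in
theorem hX (i : Fin 7) : Nat.card ↥(XX chevE7 7 K (sr i)) = r ^ f := by
  rw [card_XX hpE7 K CoxeterMatrix.E₇.toCoxeterSystem (isRoot_sr _ _ i), Nat.card_eq_fintype_card, hK]

theorem path_0_3 : PathOK CoxeterMatrix.E₇ [1, 2, 3] [1, 3, 2] [] 0 := by constructor <;> decide +kernel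

include hr hf hK in
theorem idx_0 : (PPP {j | j ≠ 0}).index * pr (r ^ f) [1, 2, 4, 6, 8, 10, 6] = pr (r ^ f) [2, 6, 8, 10, 12, 14, 18] := by
  have hJ : ({j | j ≠ 0} : Set (Fin 7)) = {j | j ∈ ([1, 2, 3, 4, 5, 6] : List (Fin 7))} := by
    ext j; revert j; decide
  have hq : 1 ≤ r ^ f := Nat.one_le_pow _ _ hr.pos
  have hr' : Fact r.Prime := ⟨hr⟩
  have hA : AE = cartanOf chevE7 7 := cartan_eq.symm
  have hfin := finite_W hpE7 CoxeterMatrix.E₇.toCoxeterSystem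
  rw [hJ]
  refine idx_of' hr hf hK (card_orbit hR (hA ▸ orbD6) (f := fun _ => r ^ f) (hX hK) (JL' := [1, 2, 3, 4, 5]) (by decide) (card_orbit hR (hA ▸ orbD5) (f := fun _ => r ^ f) (hX hK) (JL' := [1, 2, 3, 4]) (by decide) (card_orbit hR (hA ▸ orbD4) (f := fun _ => r ^ f) (hX hK) (JL' := [1, 2, 3]) (by decide) (card_step hR path_0_3 (fun i _ => hX hK i) (card_nil hR))))) ?_
  simp only [pr_cons, pr_nil, ← br_mul hq]
  generalize r ^ f = q
  simp only [sum_D4, sum_D5, sum_D6, FA_eq, List.length_cons, List.length_nil, Finset.prod_range_succ, Finset.prod_range_zero, Nat.reduceAdd]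
  have e6 := br_6 q
  have e8 := br_8 q
  have e10 := br_10 q
  have e12 := br_12 q
  have e12' := br_12' q
  have e18 := br_18 q
  have e1 : br 1 q = 1 := by simp [br]
  simp only [e6, e8, e10, e12, e18, e1]
  ring

theorem path_1_0 : PathOK CoxeterMatrix.E₇ [0, 2, 3, 4, 5, 6] [0, 2, 3, 4, 5, 6] [] 0 := by constructor <;> decide +kernel

include hr hf hK in
theorem idx_1 : (PPP {j | j ≠ 1}).index * pr (r ^ f) [1, 2, 3, 4, 5, 6, 7] = pr (r ^ f) [2, 6, 8, 10, 12, 14, 18] := by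
  have hJ : ({j | j ≠ 1} : Set (Fin 7)) = {j | j ∈ ([0, 2, 3, 4, 5, 6] : List (Fin 7))} := by
    ext j; revert j; decide
  have hq : 1 ≤ r ^ f := Nat.one_le_pow _ _ hr.pos
  have hr' : Fact r.Prime := ⟨hr⟩
  have hA : AE = cartanOf chevE7 7 := cartan_eq.symm
  have hfin := finite_W hpE7 CoxeterMatrix.E₇.toCoxeterSystem
  rw [hJ]
  refine idx_of' hr hf hK (card_step hR path_1_0 (fun i _ => hX hK i) (card_nil hR)) ?_
  simp only [pr_cons, pr_nil, ← br_mul hq]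
  generalize r ^ f = q
  simp only [FA_eq, List.length_cons, List.length_nil, Finset.prod_range_succ, Finset.prod_range_zero, Nat.reduceAdd]
  have e6 := br_6 q
  have e8 := br_8 q
  have e10 := br_10 q
  have e12 := br_12 q
  have e12' := br_12' q
  have e18 := br_18 q
  have e1 : br 1 q = 1 := by simp [br]
  simp only [e6, e8, e10, e12, e18, e1]
  ring

theorem path_2_0 : PathOK CoxeterMatrix.E₇ [0, 1, 3, 4, 5, 6] [0] [1, 3, 4, 5, 6] 0 := by constructor <;> decide +kernel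

theorem path_2_1 : PathOK CoxeterMatrix.E₇ [1, 3, 4, 5, 6] [1, 3, 4, 5, 6] [] 0 := by constructor <;> decide +kernel

include hr hf hK in
theorem idx_2 : (PPP {j | j ≠ 2}).index * pr (r ^ f) [1, 2, 2, 3, 4, 5, 6] = pr (r ^ f) [2, 6, 8, 10, 12, 14, 18] := by
  have hJ : ({j | j ≠ 2} : Set (Fin 7)) = {j | j ∈ ([0, 1, 3, 4, 5, 6] : List (Fin 7))} := by
    ext j; revert j; decide
  have hq : 1 ≤ r ^ f := Nat.one_le_pow _ _ hr.pos
  have hr' : Fact r.Prime := ⟨hr⟩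
  have hA : AE = cartanOf chevE7 7 := cartan_eq.symm
  have hfin := finite_W hpE7 CoxeterMatrix.E₇.toCoxeterSystem
  rw [hJ]
  refine idx_of' hr hf hK (card_step hR path_2_0 (fun i _ => hX hK i) (card_step hR path_2_1 (fun i _ => hX hK i) (card_nil hR))) ?_
  simp only [pr_cons, pr_nil, ← br_mul hq]
  generalize r ^ f = q
  simp only [FA_eq, List.length_cons, List.length_nil, Finset.prod_range_succ, Finset.prod_range_zero, Nat.reduceAdd]
  have e6 := br_6 q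
  have e8 := br_8 q
  have e10 := br_10 q
  have e12 := br_12 q
  have e12' := br_12' q
  have e18 := br_18 q
  have e1 : br 1 q = 1 := by simp [br]
  simp only [e6, e8, e10, e12, e18, e1]
  ring

theorem path_3_0 : PathOK CoxeterMatrix.E₇ [0, 1, 2, 4, 5, 6] [0, 2] [1, 4, 5, 6] 0 := by constructor <;> decide +kernel

theorem path_3_1 : PathOK CoxeterMatrix.E₇ [1, 4, 5, 6] [1] [4, 5, 6] 0 := by constructor <;> decide +kernel

theorem path_3_2 : PathOK CoxeterMatrix.E₇ [4, 5, 6] [4, 5, 6] [] 0 := by constructor <;> decide +kernel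

include hr hf hK in
theorem idx_3 : (PPP {j | j ≠ 3}).index * pr (r ^ f) [1, 2, 3, 2, 2, 3, 4] = pr (r ^ f) [2, 6, 8, 10, 12, 14, 18] := by
  have hJ : ({j | j ≠ 3} : Set (Fin 7)) = {j | j ∈ ([0, 1, 2, 4, 5, 6] : List (Fin 7))} := by
    ext j; revert j; decide
  have hq : 1 ≤ r ^ f := Nat.one_le_pow _ _ hr.pos
  have hr' : Fact r.Prime := ⟨hr⟩
  have hA : AE = cartanOf chevE7 7 := cartan_eq.symm
  have hfin := finite_W hpE7 CoxeterMatrix.E₇.toCoxeterSystem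
  rw [hJ]
  refine idx_of' hr hf hK (card_step hR path_3_0 (fun i _ => hX hK i) (card_step hR path_3_1 (fun i _ => hX hK i) (card_step hR path_3_2 (fun i _ => hX hK i) (card_nil hR)))) ?_
  simp only [pr_cons, pr_nil, ← br_mul hq]
  generalize r ^ f = q
  simp only [FA_eq, List.length_cons, List.length_nil, Finset.prod_range_succ, Finset.prod_range_zero, Nat.reduceAdd]
  have e6 := br_6 q
  have e8 := br_8 q
  have e10 := br_10 q
  have e12 := br_12 q
  have e12' := br_12' q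
  have e18 := br_18 q
  have e1 : br 1 q = 1 := by simp [br]
  simp only [e6, e8, e10, e12, e18, e1]
  ring

theorem path_4_0 : PathOK CoxeterMatrix.E₇ [0, 1, 2, 3, 5, 6] [0, 2, 3, 1] [5, 6] 0 := by constructor <;> decide +kernel

theorem path_4_1 : PathOK CoxeterMatrix.E₇ [5, 6] [5, 6] [] 0 := by constructor <;> decide +kernel

include hr hf hK in
theorem idx_4 : (PPP {j | j ≠ 4}).index * pr (r ^ f) [1, 2, 3, 4, 5, 2, 3] = pr (r ^ f) [2, 6, 8, 10, 12, 14, 18] := by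
  have hJ : ({j | j ≠ 4} : Set (Fin 7)) = {j | j ∈ ([0, 1, 2, 3, 5, 6] : List (Fin 7))} := by
    ext j; revert j; decide
  have hq : 1 ≤ r ^ f := Nat.one_le_pow _ _ hr.pos
  have hr' : Fact r.Prime := ⟨hr⟩
  have hA : AE = cartanOf chevE7 7 := cartan_eq.symm
  have hfin := finite_W hpE7 CoxeterMatrix.E₇.toCoxeterSystem
  rw [hJ]
  refine idx_of' hr hf hK (card_step hR path_4_0 (fun i _ => hX hK i) (card_step hR path_4_1 (fun i _ => hX hK i) (card_nil hR))) ?_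
  simp only [pr_cons, pr_nil, ← br_mul hq]
  generalize r ^ f = q
  simp only [FA_eq, List.length_cons, List.length_nil, Finset.prod_range_succ, Finset.prod_range_zero, Nat.reduceAdd]
  have e6 := br_6 q
  have e8 := br_8 q
  have e10 := br_10 q
  have e12 := br_12 q
  have e12' := br_12' q
  have e18 := br_18 q
  have e1 : br 1 q = 1 := by simp [br]
  simp only [e6, e8, e10, e12, e18, e1]
  ring

theorem path_5_2 : PathOK CoxeterMatrix.E₇ [1, 3, 4, 6] [1, 3, 4] [6] 0 := by constructor <;> decide +kernel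

theorem path_5_3 : PathOK CoxeterMatrix.E₇ [6] [6] [] 0 := by constructor <;> decide +kernel

include hr hf hK in
theorem idx_5 : (PPP {j | j ≠ 5}).index * pr (r ^ f) [1, 2, 4, 6, 8, 5, 2] = pr (r ^ f) [2, 6, 8, 10, 12, 14, 18] := by
  have hJ : ({j | j ≠ 5} : Set (Fin 7)) = {j | j ∈ ([0, 1, 2, 3, 4, 6] : List (Fin 7))} := by
    ext j; revert j; decide
  have hq : 1 ≤ r ^ f := Nat.one_le_pow _ _ hr.pos
  have hr' : Fact r.Prime := ⟨hr⟩
  have hA : AE = cartanOf chevE7 7 := cartan_eq.symm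
  have hfin := finite_W hpE7 CoxeterMatrix.E₇.toCoxeterSystem
  rw [hJ]
  refine idx_of' hr hf hK (card_orbit hR (hA ▸ orbD5x) (f := fun _ => r ^ f) (hX hK) (JL' := [1, 2, 3, 4, 6]) (by decide) (card_orbit hR (hA ▸ orbD4x) (f := fun _ => r ^ f) (hX hK) (JL' := [1, 3, 4, 6]) (by decide) (card_step hR path_5_2 (fun i _ => hX hK i) (card_step hR path_5_3 (fun i _ => hX hK i) (card_nil hR))))) ?_
  simp only [pr_cons, pr_nil, ← br_mul hq]
  generalize r ^ f = q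
  simp only [sum_D4x, sum_D5x, FA_eq, List.length_cons, List.length_nil, Finset.prod_range_succ, Finset.prod_range_zero, Nat.reduceAdd]
  have e6 := br_6 q
  have e8 := br_8 q
  have e10 := br_10 q
  have e12 := br_12 q
  have e12' := br_12' q
  have e18 := br_18 q
  have e1 : br 1 q = 1 := by simp [br]
  simp only [e6, e8, e10, e12, e18, e1]
  ring

theorem path_6_3 : PathOK CoxeterMatrix.E₇ [1, 2, 3] [1, 3, 2] [] 0 := by constructor <;> decide +kernel

include hr hf hK in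
theorem idx_6 : (PPP {j | j ≠ 6}).index * pr (r ^ f) [1, 2, 5, 6, 8, 9, 12] = pr (r ^ f) [2, 6, 8, 10, 12, 14, 18] := by
  have hJ : ({j | j ≠ 6} : Set (Fin 7)) = {j | j ∈ ([0, 1, 2, 3, 4, 5] : List (Fin 7))} := by
    ext j; revert j; decide
  have hq : 1 ≤ r ^ f := Nat.one_le_pow _ _ hr.pos
  have hr' : Fact r.Prime := ⟨hr⟩
  have hA : AE = cartanOf chevE7 7 := cartan_eq.symm
  have hfin := finite_W hpE7 CoxeterMatrix.E₇.toCoxeterSystem
  rw [hJ]
  refine idx_of' hr hf hK (card_orbit hR (hA ▸ orbE6) (f := fun _ => r ^ f) (hX hK) (JL' := [1, 2, 3, 4, 5]) (by decide) (card_orbit hR (hA ▸ orbD5) (f := fun _ => r ^ f) (hX hK) (JL' := [1, 2, 3, 4]) (by decide) (card_orbit hR (hA ▸ orbD4) (f := fun _ => r ^ f) (hX hK) (JL' := [1, 2, 3]) (by decide) (card_step hR path_6_3 (fun i _ => hX hK i) (card_nil hR))))) ?_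
  simp only [pr_cons, pr_nil, ← br_mul hq]
  generalize r ^ f = q
  simp only [sum_D4, sum_D5, sum_E6, FA_eq, List.length_cons, List.length_nil, Finset.prod_range_succ, Finset.prod_range_zero, Nat.reduceAdd]
  have e6 := br_6 q
  have e8 := br_8 q
  have e10 := br_10 q
  have e12 := br_12 q
  have e12' := br_12' q
  have e18 := br_18 q
  have e1 : br 1 q = 1 := by simp [br]
  simp only [e6, e8, e10, e12', e18, e1]
  ring

end Par

end Cfsg.Agent.H505.Cop.E7Num
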