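import Mathlib
import Cfsg.Agent.S0007

/-!
# Coprime orbits in irreducible modules: structural reduction (S4175, S4174)

`CopRow H`: no irreducible non-trivial `F_p H`-module has non-zero vectors fixed by two subgroups of
coprime indices.  The reduction: if `CopRow S` holds for every non-abelian simple group `S` then it holds
for all finite groups, and the statement over any field follows.
-/

set_option autoImplicit false

namespace Cfsg.Agent.H505.Cop

open scoped Pointwise

universe u

/-- The only invariant subspaces are `0` and `V`. -/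
def Irr {k V H : Type*} [Field k] [AddCommGroup V] [Module k V] [Group H]
    (ρ : Representation k H V) : Prop :=
  ∀ W : Submodule k V, (∀ h : H, ∀ w ∈ W, ρ h w ∈ W) → W = ⊥ ∨ W = ⊤

/-- The group does not act trivially. -/
def Nontriv {k V H : Type*} [Field k] [AddCommGroup V] [Module k V] [Group H]
    (ρ : Representation k H V) : Prop := ∃ (h : H) (v : V), ρ h v ≠ v

/-- Row predicate: no irreducible non-trivial finite `F_p H`-module has non-zero vectors fixed by two
subgroups of coprime indices. -/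
def CopRow (H : Type*) [Group H] : Prop :=
  ∀ (p : ℕ) [Fact p.Prime] (V : Type) [AddCommGroup V] [Module (ZMod p) V] [Finite V]
    (ρ : Representation (ZMod p) H V), Irr ρ → Nontriv ρ →
    ∀ A B : Subgroup H, A.index.Coprime B.index →
    ∀ a b : V, (∀ x ∈ A, ρ x a = a) → (∀ x ∈ B, ρ x b = b) → a = 0 ∨ b = 0

section basic

variable {k V H : Type*} [Field k] [AddCommGroup V] [Module k V] [Group H]

theorem rho_inv_apply (ρ : Representation k H V) (h : H) (v : V) : ρ h⁻¹ (ρ h v) = v := by
  rw [← Module.End.mul_apply, ← map_mul, inv_mul_cancel, map_one, Module.End.one_apply]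

theorem rho_apply_inv (ρ : Representation k H V) (h : H) (v : V) : ρ h (ρ h⁻¹ v) = v := by
  rw [← Module.End.mul_apply, ← map_mul, mul_inv_cancel, map_one, Module.End.one_apply]

theorem rho_mul_apply (ρ : Representation k H V) (g h : H) (v : V) : ρ (g * h) v = ρ g (ρ h v) := by
  rw [map_mul, Module.End.mul_apply]

/-- Stabiliser of a vector. -/
def stab (ρ : Representation k H V) (a : V) : Subgroup H where
  carrier := {h | ρ h a = a}
  mul_mem' := by
    intro x y hx hy
    simp only [Set.mem_ofPred_eq] at hx hy ⊢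
    rw [rho_mul_apply, hy, hx]
  one_mem' := by simp
  inv_mem' := by
    intro x hx
    simp only [Set.mem_ofPred_eq] at hx ⊢
    conv_lhs => rw [← hx]
    exact rho_inv_apply ρ x a

theorem mem_stab {ρ : Representation k H V} {a : V} {h : H} : h ∈ stab ρ a ↔ ρ h a = a := Iff.rfl

/-- Orbit size = index of the stabiliser. -/
theorem card_orbit (ρ : Representation k H V) (a : V) :
    Nat.card {u : V | ∃ h : H, ρ h a = u} = (stab ρ a).index := by
  unfold Subgroup.index
  refine (Nat.card_congr (Equiv.ofBijective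
    (fun c : H ⧸ stab ρ a => Quotient.liftOn' c
      (fun h => (⟨ρ h a, h, rfl⟩ : {u : V | ∃ h : H, ρ h a = u})) ?_) ⟨?_, ?_⟩)).symm
  · intro x y hxy
    rw [QuotientGroup.leftRel_apply, mem_stab, rho_mul_apply] at hxy
    apply Subtype.ext
    show ρ x a = ρ y a
    have := congrArg (ρ x) hxy
    rw [rho_apply_inv] at this
    exact this.symm
  · intro c d
    induction c using QuotientGroup.induction_on with
    | H x =>
      induction d using QuotientGroup.induction_on with
      | H y =>
        intro h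
        have h' : ρ x a = ρ y a := congrArg Subtype.val h
        rw [QuotientGroup.eq, mem_stab, rho_mul_apply, ← h', rho_inv_apply]
  · rintro ⟨u, h, rfl⟩
    exact ⟨(h : H ⧸ stab ρ a), rfl⟩

/-- A fixed vector of an irreducible non-trivial representation is zero. -/
theorem eq_zero_of_fixed {ρ : Representation k H V} (hirr : Irr ρ) (hnt : Nontriv ρ) (v : V)
    (hv : ∀ h : H, ρ h v = v) : v = 0 := by
  by_contra hv0
  obtain ⟨g, w, hgw⟩ := hnt
  have h1 : Submodule.span k {v} = ⊤ := by
    rcases hirr (Submodule.span k {v}) (by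
      intro h w hw
      rw [Submodule.mem_span_singleton] at hw
      obtain ⟨c, rfl⟩ := hw
      rw [map_smul, hv]
      exact Submodule.smul_mem _ _ (Submodule.mem_span_singleton_self v)) with h | h
    · exact absurd (Submodule.span_singleton_eq_bot.1 h) hv0
    · exact h
  have h2 : w ∈ Submodule.span k {v} := by rw [h1]; trivial
  obtain ⟨c, rfl⟩ := Submodule.mem_span_singleton.1 h2
  exact hgw (by rw [map_smul, hv])

/-- The orbit of a non-zero vector spans an irreducible module. -/
theorem span_orbit {ρ : Representation k H V} (hirr : Irr ρ) {v : V} (hv : v ≠ 0) :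
    Submodule.span k (Set.range fun h : H => ρ h v) = ⊤ := by
  rcases hirr (Submodule.span k (Set.range fun h : H => ρ h v)) (by
    intro h w hw
    induction hw using Submodule.span_induction with
    | mem x hx =>
      obtain ⟨g, rfl⟩ := hx
      apply Submodule.subset_span
      exact ⟨h * g, rho_mul_apply ρ h g v⟩
    | zero => rw [map_zero]; exact zero_mem _
    | add x y _ _ hx hy => rw [map_add]; exact add_mem hx hy
    | smul c x _ hx => rw [map_smul]; exact Submodule.smul_mem _ _ hx) with h | h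
  · exfalso
    apply hv
    have : v ∈ Submodule.span k (Set.range fun h : H => ρ h v) :=
      Submodule.subset_span ⟨1, by simp⟩
    rwa [h, Submodule.mem_bot] at this
  · exact h

/-- The sum over an orbit is zero. -/
theorem sum_orbit_eq_zero [Finite H] {ρ : Representation k H V} (hirr : Irr ρ) (hnt : Nontriv ρ)
    (A : Subgroup H) (a : V) (hA : ∀ x ∈ A, ρ x a = a) [Fintype (H ⧸ A)] :
    ∑ c : H ⧸ A, ρ c.out a = 0 := by
  apply eq_zero_of_fixed hirr hnt
  intro h
  rw [map_sum]
  refine Fintype.sum_equiv (MulAction.toPerm h) _ _ ?_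
  intro c
  rw [← rho_mul_apply]
  have h1 : (h * c.out)⁻¹ * (MulAction.toPerm h c : H ⧸ A).out ∈ A := by
    rw [← QuotientGroup.eq, QuotientGroup.out_eq', MulAction.toPerm_apply]
    conv_rhs => rw [← QuotientGroup.out_eq' c]
    rfl
  have h2 := hA _ h1
  rw [rho_mul_apply] at h2
  have h3 := congrArg (ρ (h * c.out)) h2
  rw [rho_apply_inv] at h3
  exact h3.symm

/-- **Pairing lemma.** A non-zero vector fixed by `A` and a non-zero functional fixed by `B` cannot exist
when the indices are coprime. -/
theorem pairing [Finite H] {ρ : Representation k H V} (hirr : Irr ρ) (hnt : Nontriv ρ)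
    (A B : Subgroup H) (hcop : A.index.Coprime B.index) (a : V) (hA : ∀ x ∈ A, ρ x a = a)
    (l : V →ₗ[k] k) (hB : ∀ x ∈ B, ∀ v, l (ρ x v) = l v) : a = 0 ∨ l = 0 := by
  classical
  by_cases ha : a = 0
  · exact Or.inl ha
  right
  have hconst : ∀ h : H, l (ρ h a) = l a := by
    intro h
    obtain ⟨x, hx, y, hy, rfl⟩ := Cfsg.Agent.S0007.exists_mul_eq B A hcop.symm h
    rw [rho_mul_apply, hA y hy, hB x hx]
  have hfin : Fintype (H ⧸ A) := Fintype.ofFinite _
  have hfin' : Fintype (H ⧸ B) := Fintype.ofFinite _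
  have h1 : (A.index : k) * l a = 0 := by
    have := congrArg l (sum_orbit_eq_zero hirr hnt A a hA)
    rw [map_zero, map_sum, Finset.sum_congr rfl (fun c _ => hconst _), Finset.sum_const,
      Finset.card_univ, nsmul_eq_mul] at this
    rwa [Subgroup.index, Nat.card_eq_fintype_card]
  -- the sum of the conjugates of `l`
  have h2 : (B.index : k) * l a = 0 := by
    let φ : V →ₗ[k] k := ∑ c : H ⧸ B, l ∘ₗ (ρ (c.out)⁻¹)
    have hφ : ∀ (h : H) (v : V), φ (ρ h v) = φ v := by
      intro h v
      simp only [φ, LinearMap.sum_apply, LinearMap.comp_apply]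
      refine Fintype.sum_equiv (MulAction.toPerm h⁻¹) _ _ ?_
      intro c
      have h1 : (h⁻¹ * c.out)⁻¹ * (MulAction.toPerm h⁻¹ c : H ⧸ B).out ∈ B := by
        rw [← QuotientGroup.eq, QuotientGroup.out_eq', MulAction.toPerm_apply]
        conv_rhs => rw [← QuotientGroup.out_eq' c]
        rfl
      have h2 := hB _ (B.inv_mem h1) (ρ (h⁻¹ * c.out)⁻¹ v)
      rw [← rho_mul_apply] at h2
      rw [← rho_mul_apply]
      have e1 : ((h⁻¹ * c.out)⁻¹ * (MulAction.toPerm h⁻¹ c : H ⧸ B).out)⁻¹ * (h⁻¹ * c.out)⁻¹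
        = ((MulAction.toPerm h⁻¹ c : H ⧸ B).out)⁻¹ := by group
      rw [e1] at h2
      rw [h2]
      congr 2
      group
    have hφ0 : φ = 0 := by
      rcases hirr (LinearMap.ker φ) (by
        intro h w hw
        rw [LinearMap.mem_ker] at hw ⊢
        rw [hφ, hw]) with h | h
      · exfalso
        obtain ⟨g, w, hgw⟩ := hnt
        apply hgw
        have : ρ g w - w ∈ LinearMap.ker φ := by
          rw [LinearMap.mem_ker, map_sub, hφ, sub_self]
        rw [h, Submodule.mem_bot, sub_eq_zero] at this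
        exact this
      · exact LinearMap.ker_eq_top.1 h
    have := LinearMap.congr_fun hφ0 a
    simp only [φ, LinearMap.sum_apply, LinearMap.comp_apply, LinearMap.zero_apply] at this
    rw [Finset.sum_congr rfl (fun c _ => hconst _), Finset.sum_const,
      Finset.card_univ, nsmul_eq_mul] at this
    rwa [Subgroup.index, Nat.card_eq_fintype_card]
  have h3 : l a = 0 := by
    have hbez : (A.index : ℤ) * A.index.gcdA B.index + B.index * A.index.gcdB B.index = 1 := by
      have := Nat.gcd_eq_gcd_ab A.index B.index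
      rw [hcop] at this
      exact_mod_cast this.symm
    have : ((A.index : k) * (A.index.gcdA B.index : ℤ) + B.index * (A.index.gcdB B.index : ℤ)) * l a
        = l a := by
      have e : ((A.index : k) * (A.index.gcdA B.index : ℤ) + B.index * (A.index.gcdB B.index : ℤ)) = 1 := by
        exact_mod_cast congrArg (Int.cast : ℤ → k) hbez
      rw [e, one_mul]
    rw [← this]
    have e2 : ((A.index : k) * (A.index.gcdA B.index : ℤ) + B.index * (A.index.gcdB B.index : ℤ)) * l a
      = (A.index.gcdA B.index : ℤ) * ((A.index : k) * l a)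
        + (A.index.gcdB B.index : ℤ) * ((B.index : k) * l a) := by ring
    rw [e2, h1, h2, mul_zero, mul_zero, add_zero]
  have h4 : Submodule.span k (Set.range fun h : H => ρ h a) ≤ LinearMap.ker l := by
    rw [Submodule.span_le]
    rintro _ ⟨h, rfl⟩
    show l (ρ h a) = 0
    rw [hconst, h3]
  rw [span_orbit hirr ha, top_le_iff] at h4
  exact LinearMap.ker_eq_top.1 h4

/-- Characteristic prime to `|B|`: averaging. -/
theorem of_card_ne_zero [Finite H] {ρ : Representation k H V} (hirr : Irr ρ) (hnt : Nontriv ρ)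
    (A B : Subgroup H) (hcop : A.index.Coprime B.index) (a b : V) (hA : ∀ x ∈ A, ρ x a = a)
    (hB : ∀ x ∈ B, ρ x b = b) (hk : ((Nat.card B : ℕ) : k) ≠ 0) : a = 0 ∨ b = 0 := by
  classical
  by_cases hb : b = 0
  · exact Or.inr hb
  left
  have hfin : Fintype B := Fintype.ofFinite _
  obtain ⟨l, hl⟩ := Module.Projective.exists_dual_ne_zero k hb
  let φ : V →ₗ[k] k := ∑ x : B, l ∘ₗ ρ (x : H)
  have hφ : ∀ x ∈ B, ∀ v, φ (ρ x v) = φ v := by
    intro x hx v
    simp only [φ, LinearMap.sum_apply, LinearMap.comp_apply]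
    refine Fintype.sum_equiv (Equiv.mulRight ⟨x, hx⟩) _ _ ?_
    intro y
    rw [← rho_mul_apply]
    rfl
  have hφb : φ b ≠ 0 := by
    simp only [φ, LinearMap.sum_apply, LinearMap.comp_apply]
    rw [Finset.sum_congr rfl (fun x _ => by rw [hB x.1 x.2]), Finset.sum_const, Finset.card_univ,
      nsmul_eq_mul]
    exact mul_ne_zero (by rwa [← Nat.card_eq_fintype_card]) hl
  rcases pairing hirr hnt A B hcop a hA φ hφ with h | h
  · exact h
  · exact absurd (by rw [h, LinearMap.zero_apply]) hφb

end basic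

/-! ### The reduction step: restriction to a normal subgroup and to the prime field -/

section step

variable {k V H N : Type*} [Field k] [AddCommGroup V] [Module k V] [Group H] [Finite H] [Group N]

/-- A `ZMod p`-submodule containing all `k`-multiples of a set contains the `k`-span. -/
theorem span_sub {p : ℕ} [Module (ZMod p) V] (Y : Submodule (ZMod p) V) (S : Set V)
    (h : ∀ (c : k), ∀ s ∈ S, c • s ∈ Y) : ∀ v ∈ Submodule.span k S, ∀ c : k, c • v ∈ Y := by
  intro v hv
  induction hv using Submodule.span_induction with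
  | mem x hx => intro c; exact h c x hx
  | zero => intro c; rw [smul_zero]; exact zero_mem _
  | add x y _ _ hx hy => intro c; rw [smul_add]; exact add_mem (hx c) (hy c)
  | smul d x _ hx => intro c; rw [smul_smul]; exact hx (c * d)

theorem red_step (p : ℕ) [Fact p.Prime] [CharP k p] (ι : N →* H) (hn : ι.range.Normal)
    (ρ : Representation k H V) (hirr : Irr ρ) (hnt : ∃ (n : N) (v : V), ρ (ι n) v ≠ v)
    (A B : Subgroup H) (a b : V) (ha : a ≠ 0) (hb : b ≠ 0) (hA : ∀ x ∈ A, ρ x a = a)
    (hB : ∀ x ∈ B, ρ x b = b) :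
    ∃ (d : ℕ) (σ : Representation (ZMod p) N (Fin d → ZMod p)), Irr σ ∧ Nontriv σ ∧
      ∃ (h : H) (a' b' : Fin d → ZMod p), a' ≠ 0 ∧ b' ≠ 0 ∧
        (∀ n, h⁻¹ * ι n * h ∈ A → σ n a' = a') ∧ (∀ n, ι n ∈ B → σ n b' = b') := by
  classical
  let _ : Module (ZMod p) V := Module.compHom V (ZMod.castHom (dvd_refl p) k)
  -- the action by `ZMod p`-linear maps
  let τ : H → V →ₗ[ZMod p] V := fun h => (ρ h).toAddMonoidHom.toZModLinearMap p
  have hτ : ∀ h v, τ h v = ρ h v := fun h v => rfl
  -- `N`-invariance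
  let Inv : Submodule (ZMod p) V → Prop := fun W => ∀ n : N, ∀ w ∈ W, ρ (ι n) w ∈ W
  have hconj : ∀ (h : H) (n : N), ∃ n' : N, ρ (ι n) = ρ h * ρ (ι n') * ρ h⁻¹ ∧ ι n = h * ι n' * h⁻¹ := by
    intro h n
    obtain ⟨n', hn'⟩ := hn.conj_mem (ι n) ⟨n, rfl⟩ h⁻¹
    have e : ι n = h * ι n' * h⁻¹ := by rw [hn']; group
    exact ⟨n', by rw [e, map_mul, map_mul], e⟩
  -- a minimal non-zero invariant subspace
  obtain ⟨M, hM0, hMinv, hMmin⟩ : ∃ M : Submodule (ZMod p) V, M ≠ ⊥ ∧ Inv M ∧
      ∀ M' : Submodule (ZMod p) V, M' ≤ M → M' ≠ ⊥ → Inv M' → M' = M := by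
    obtain ⟨F, hF⟩ : ∃ F : Submodule (ZMod p) V,
        F = Submodule.span (ZMod p) (Set.range fun n : N => ρ (ι n) a) := ⟨_, rfl⟩
    have hfin : (Set.range fun n : N => ρ (ι n) a).Finite :=
      (Set.finite_range fun h : H => ρ h a).subset (by rintro _ ⟨n, rfl⟩; exact ⟨ι n, rfl⟩)
    have hFd : FiniteDimensional (ZMod p) F := by
      rw [hF]; exact FiniteDimensional.span_of_finite (ZMod p) hfin
    have hF0 : F ≠ ⊥ := by
      intro h
      apply ha
      have : a ∈ F := by
        rw [hF]
        exact Submodule.subset_span ⟨1, by simp⟩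
      rwa [h, Submodule.mem_bot] at this
    have hFinv : Inv F := by
      intro n w hw
      rw [hF] at hw ⊢
      induction hw using Submodule.span_induction with
      | mem x hx =>
        obtain ⟨g, rfl⟩ := hx
        apply Submodule.subset_span
        exact ⟨n * g, by simp only [map_mul, Module.End.mul_apply]⟩
      | zero => rw [map_zero]; exact zero_mem _
      | add x y _ _ hx hy => rw [map_add]; exact add_mem hx hy
      | smul c x _ hx =>
        have : ρ (ι n) (c • x) = c • ρ (ι n) x := (τ (ι n)).map_smul c x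
        rw [this]
        exact Submodule.smul_mem _ _ hx
    have hex : ∃ d : ℕ, ∃ M : Submodule (ZMod p) V, M ≤ F ∧ M ≠ ⊥ ∧ Inv M ∧
        Module.finrank (ZMod p) M = d := ⟨_, F, le_rfl, hF0, hFinv, rfl⟩
    obtain ⟨M, hMF, hM0, hMinv, hMd⟩ := Nat.find_spec hex
    refine ⟨M, hM0, hMinv, ?_⟩
    intro M' hM' hM'0 hM'inv
    have : FiniteDimensional (ZMod p) M := Submodule.finiteDimensional_of_le hMF
    apply Submodule.eq_of_le_of_finrank_le hM'
    rw [hMd]
    exact Nat.find_min' hex ⟨M', hM'.trans hMF, hM'0, hM'inv, rfl⟩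
  obtain ⟨m0, hm0M, hm0⟩ := Submodule.exists_mem_ne_zero_of_ne_bot hM0
  -- a `ZMod p`-subspace containing all `c • h v0` is everything
  have hspan : ∀ v0 : V, v0 ≠ 0 → ∀ Y : Submodule (ZMod p) V, (∀ (c : k) (h : H), c • ρ h v0 ∈ Y) →
      Y = ⊤ := by
    intro v0 hv0 Y hY
    rw [eq_top_iff]
    intro v _
    have h1 := span_sub (k := k) Y (Set.range fun h : H => ρ h v0) (by
      rintro c _ ⟨h, rfl⟩
      exact hY c h) v (by rw [span_orbit hirr hv0]; trivial) 1
    rwa [one_smul] at h1
  -- Zorn: a maximal invariant subspace not containing `b`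
  obtain ⟨X, -, hX⟩ := zorn_le_nonempty₀ {X : Submodule (ZMod p) V | Inv X ∧ b ∉ X} (by
    intro c hc hch y hy
    refine ⟨sSup c, ⟨?_, ?_⟩, fun z hz => le_sSup hz⟩
    · intro n w hw
      rw [Submodule.mem_sSup_of_directed ⟨y, hy⟩ hch.directedOn] at hw ⊢
      obtain ⟨z, hz, hwz⟩ := hw
      exact ⟨z, hz, (hc hz).1 n w hwz⟩
    · rw [Submodule.mem_sSup_of_directed ⟨y, hy⟩ hch.directedOn]
      rintro ⟨z, hz, hbz⟩
      exact (hc hz).2 hbz) ⊥ ⟨by
        intro n w hw
        rw [Submodule.mem_bot] at hw ⊢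
        rw [hw, map_zero], by rwa [Submodule.mem_bot]⟩
  have hXinv : Inv X := hX.1.1
  have hbX : b ∉ X := hX.1.2
  have hXmax : ∀ Y : Submodule (ZMod p) V, Inv Y → X < Y → b ∈ Y := by
    intro Y hY hXY
    by_contra hbY
    exact hXY.not_ge (hX.2 ⟨hY, hbY⟩ hXY.le)
  -- `X` is a maximal invariant subspace
  have hXco : ∀ Y : Submodule (ZMod p) V, Inv Y → X < Y → Y = ⊤ := by
    intro Y hY hXY
    have hbY : b ∈ Y := hXmax Y hY hXY
    apply hspan m0 hm0
    intro c h
    by_contra hcon
    have hc0 : c ≠ 0 := by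
      rintro rfl
      rw [zero_smul] at hcon
      exact hcon (zero_mem _)
    -- the translate of `M`
    let f : V →ₗ[ZMod p] V := (c • (ρ h : V →ₗ[k] V)).toAddMonoidHom.toZModLinearMap p
    have hf : ∀ v, f v = c • ρ h v := fun v => rfl
    have hfinj : Function.Injective f := by
      intro v w hvw
      rw [hf, hf] at hvw
      have h1 := smul_right_injective V hc0 hvw
      have h2 := congrArg (ρ h⁻¹) h1
      rwa [rho_inv_apply, rho_inv_apply] at h2
    have hfN : ∀ n : N, ∃ n' : N, ∀ v, ρ (ι n) (f v) = f (ρ (ι n') v) := by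
      intro n
      obtain ⟨n', e, -⟩ := hconj h n
      refine ⟨n', fun v => ?_⟩
      rw [hf, hf, map_smul, e, Module.End.mul_apply, Module.End.mul_apply, rho_inv_apply]
    have hfN' : ∀ n : N, ∃ n' : N, ∀ v, f (ρ (ι n) v) = ρ (ι n') (f v) := by
      intro n
      obtain ⟨n', e, -⟩ := hconj h⁻¹ n
      refine ⟨n', fun v => ?_⟩
      rw [hf, hf, map_smul, e, Module.End.mul_apply, Module.End.mul_apply, rho_apply_inv, inv_inv]
    have hpre : ∀ Z : Submodule (ZMod p) V, Inv Z → M ⊓ Z.comap f ≠ ⊥ → ∀ m ∈ M, f m ∈ Z := by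
      intro Z hZ hne m hm
      have := hMmin (M ⊓ Z.comap f) inf_le_left hne (by
        intro n w hw
        refine ⟨hMinv n w hw.1, ?_⟩
        show f (ρ (ι n) w) ∈ Z
        obtain ⟨n', hn'⟩ := hfN' n
        rw [hn']
        exact hZ n' _ hw.2)
      rw [← this] at hm
      exact hm.2
    have h1 : M ⊓ X.comap f = ⊥ := by
      by_contra hne
      exact hcon (hXY.le (hpre X hXinv hne m0 hm0M))
    have h2 : X < X ⊔ M.map f := by
      refine lt_of_le_of_ne le_sup_left ?_
      intro heq
      have : f m0 ∈ X := by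
        rw [heq]
        exact (le_sup_right : M.map f ≤ X ⊔ M.map f) ⟨m0, hm0M, rfl⟩
      have h3 : m0 ∈ M ⊓ X.comap f := ⟨hm0M, this⟩
      rw [h1, Submodule.mem_bot] at h3
      exact hm0 h3
    have h3 : b ∈ X ⊔ M.map f := by
      apply hXmax _ _ h2
      intro n w hw
      rw [Submodule.mem_sup] at hw ⊢
      obtain ⟨x, hx, _, ⟨m, hm, rfl⟩, rfl⟩ := hw
      obtain ⟨n', hn'⟩ := hfN n
      refine ⟨ρ (ι n) x, hXinv n x hx, f (ρ (ι n') m), ⟨_, hMinv n' m hm, rfl⟩, ?_⟩
      rw [map_add, hn']
    rw [Submodule.mem_sup] at h3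
    obtain ⟨x, hx, _, ⟨m, hm, rfl⟩, hxb⟩ := h3
    have h4 : f m ∈ Y := by
      have : f m = b - x := by rw [← hxb]; abel
      rw [this]
      exact sub_mem hbY (hXY.le hx)
    have h5 : m ≠ 0 := by
      rintro rfl
      rw [map_zero, add_zero] at hxb
      rw [hxb] at hx
      exact hbX hx
    refine hcon (hpre Y hY ?_ m0 hm0M)
    intro h6
    apply h5
    rw [← Submodule.mem_bot (ZMod p), ← h6]
    exact ⟨hm, h4⟩
  -- the quotient representation
  have hXle : ∀ n : N, X ≤ X.comap (τ (ι n)) := fun n w hw => hXinv n w hw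
  let σ0 : Representation (ZMod p) N (V ⧸ X) :=
    { toFun := fun n => X.mapQ X (τ (ι n)) (hXle n)
      map_one' := by
        apply LinearMap.ext
        intro w
        obtain ⟨v, rfl⟩ := X.mkQ_surjective w
        show X.mapQ X (τ (ι 1)) (hXle 1) (X.mkQ v) = X.mkQ v
        rw [Submodule.mkQ_apply, Submodule.mapQ_apply, hτ, map_one, map_one, Module.End.one_apply]
      map_mul' := by
        intro m n
        apply LinearMap.ext
        intro w
        obtain ⟨v, rfl⟩ := X.mkQ_surjective w
        show X.mapQ X (τ (ι (m * n))) (hXle (m * n)) (X.mkQ v) =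
          X.mapQ X (τ (ι m)) (hXle m) (X.mapQ X (τ (ι n)) (hXle n) (X.mkQ v))
        rw [Submodule.mkQ_apply, Submodule.mapQ_apply, Submodule.mapQ_apply, Submodule.mapQ_apply,
          hτ, hτ, hτ, map_mul, map_mul, Module.End.mul_apply] }
  have hσ0 : ∀ n v, σ0 n (X.mkQ v) = X.mkQ (ρ (ι n) v) := fun n v => rfl
  have hirr0 : Irr σ0 := by
    intro W hW
    have hWinv : Inv (W.comap X.mkQ) := by
      intro n w hw
      rw [Submodule.mem_comap] at hw ⊢
      rw [← hσ0]
      exact hW n _ hw
    rcases (Submodule.le_comap_mkQ X W).lt_or_eq with h | h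
    · right
      rw [eq_top_iff]
      intro w _
      obtain ⟨v, rfl⟩ := X.mkQ_surjective w
      have : v ∈ W.comap X.mkQ := by rw [hXco _ hWinv h]; trivial
      exact this
    · left
      rw [eq_bot_iff]
      intro w hw
      obtain ⟨v, rfl⟩ := X.mkQ_surjective w
      have : v ∈ W.comap X.mkQ := hw
      rw [← h] at this
      rw [Submodule.mem_bot, Submodule.mkQ_apply, Submodule.Quotient.mk_eq_zero]
      exact this
  have hbt : X.mkQ b ≠ 0 := by
    rw [Submodule.mkQ_apply, Ne, Submodule.Quotient.mk_eq_zero]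
    exact hbX
  have hXtop : X ≠ ⊤ := by
    intro h
    apply hbX
    rw [h]
    trivial
  obtain ⟨c, h, hch⟩ : ∃ (c : k) (h : H), c • ρ h a ∉ X := by
    by_contra hcon
    push Not at hcon
    exact hXtop (hspan a ha X hcon)
  have hnt0 : Nontriv σ0 := by
    by_contra hcon
    have hcon' : ∀ (n : N) (v : V), ρ (ι n) v - v ∈ X := by
      intro n v
      by_contra h1
      apply hcon
      refine ⟨n, X.mkQ v, ?_⟩
      rw [hσ0]
      intro h2
      apply h1
      rw [← Submodule.Quotient.mk_eq_zero, Submodule.Quotient.mk_sub, sub_eq_zero]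
      exact h2
    obtain ⟨n, v, hnv⟩ := hnt
    apply hXtop
    apply hspan (ρ (ι n) v - v) (sub_ne_zero.2 hnv)
    intro c h
    obtain ⟨n', e, -⟩ := hconj h⁻¹ n
    have : c • ρ h (ρ (ι n) v - v) = ρ (ι n') (c • ρ h v) - c • ρ h v := by
      rw [e, map_sub, Module.End.mul_apply, Module.End.mul_apply, rho_apply_inv, inv_inv, map_smul,
        smul_sub]
    rw [this]
    exact hcon' n' _
  -- finiteness
  have hfd : FiniteDimensional (ZMod p) (V ⧸ X) := by
    have hfin : (Set.range fun n : N => σ0 n (X.mkQ b)).Finite :=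
      (Set.finite_range fun h : H => X.mkQ (ρ h b)).subset (by
        rintro _ ⟨n, rfl⟩; exact ⟨ι n, rfl⟩)
    have h1 := FiniteDimensional.span_of_finite (ZMod p) hfin
    rw [span_orbit hirr0 hbt] at h1
    exact Module.Finite.of_surjective (Submodule.topEquiv (R := ZMod p) (M := V ⧸ X)).toLinearMap
      (LinearEquiv.surjective _)
  -- transfer to `Fin d → ZMod p`
  let e : (V ⧸ X) ≃ₗ[ZMod p] (Fin (Module.finrank (ZMod p) (V ⧸ X)) → ZMod p) :=
    (Module.finBasis (ZMod p) (V ⧸ X)).equivFun
  let σ : Representation (ZMod p) N (Fin (Module.finrank (ZMod p) (V ⧸ X)) → ZMod p) :=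
    { toFun := fun n => e.toLinearMap ∘ₗ σ0 n ∘ₗ e.symm.toLinearMap
      map_one' := by
        apply LinearMap.ext
        intro w
        simp
      map_mul' := by
        intro m n
        apply LinearMap.ext
        intro w
        simp [Module.End.mul_apply] }
  have hσ : ∀ n w, σ n w = e (σ0 n (e.symm w)) := fun n w => rfl
  refine ⟨_, σ, ?_, ?_, h, e (X.mkQ (c • ρ h a)), e (X.mkQ b), ?_, ?_, ?_, ?_⟩
  · intro W hW
    rcases hirr0 (W.comap e.toLinearMap) (by
      intro n w hw
      have h1 := hW n (e w) hw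
      rw [hσ, e.symm_apply_apply] at h1
      exact h1) with h1 | h1
    · left
      rw [eq_bot_iff]
      intro w hw
      have h2 : e.symm w ∈ W.comap e.toLinearMap := by
        rw [Submodule.mem_comap]
        show e (e.symm w) ∈ W
        rwa [e.apply_symm_apply]
      rw [h1, Submodule.mem_bot] at h2
      rw [Submodule.mem_bot]
      have := congrArg e h2
      rwa [e.apply_symm_apply, map_zero] at this
    · right
      rw [eq_top_iff]
      intro w _
      have h2 : e.symm w ∈ W.comap e.toLinearMap := by rw [h1]; trivial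
      have h3 : e (e.symm w) ∈ W := h2
      rwa [e.apply_symm_apply] at h3
  · obtain ⟨n, v, hnv⟩ := hnt0
    refine ⟨n, e v, ?_⟩
    rw [hσ, e.symm_apply_apply]
    intro h1
    exact hnv (e.injective h1)
  · rw [Ne, LinearEquiv.map_eq_zero_iff, Submodule.mkQ_apply, Submodule.Quotient.mk_eq_zero]
    exact hch
  · rw [Ne, LinearEquiv.map_eq_zero_iff]
    exact hbt
  · intro n hn'
    rw [hσ, e.symm_apply_apply, hσ0]
    congr 2
    rw [map_smul]
    congr 1
    have h1 := hA _ hn'
    rw [rho_mul_apply, rho_mul_apply] at h1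
    have h2 := congrArg (ρ h) h1
    rwa [rho_apply_inv] at h2
  · intro n hn'
    rw [hσ, e.symm_apply_apply, hσ0, hB _ hn']

end step

/-! ### Reduction to simple groups -/

/-- For a normal subgroup `N`, the index of `A ∩ N` in `N` divides the index of `A`. -/
theorem relIndex_dvd {H : Type*} [Group H] [Finite H] (A N : Subgroup H) [N.Normal] :
    A.relIndex N ∣ A.index := by
  have h1 : (A ⊓ N).index = A.relIndex N * N.index := by
    rw [← Subgroup.inf_relIndex_right, Subgroup.relIndex_mul_index inf_le_right]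
  have h2 : (A ⊓ N).index = N.relIndex A * A.index := by
    rw [← Subgroup.inf_relIndex_left, Subgroup.relIndex_mul_index inf_le_left]
  obtain ⟨q, hq⟩ : N.relIndex A ∣ N.index := Subgroup.relIndex_dvd_index_of_normal N A
  refine ⟨q, ?_⟩
  have h3 : N.relIndex A ≠ 0 := by
    intro h
    rw [h, zero_mul] at hq
    exact Subgroup.index_ne_zero_of_finite hq
  apply Nat.eq_of_mul_eq_mul_left (Nat.pos_of_ne_zero h3)
  rw [← h2, h1, hq]
  ring

/-- The row of a group with a proper normal subgroup `N` follows from the rows of `N` and of `G ⧸ N`. -/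
theorem copRow_of_normal {H : Type*} [Group H] [Finite H] (N : Subgroup H) [hN : N.Normal]
    (h1 : CopRow N) (h2 : CopRow (H ⧸ N)) : CopRow H := by
  intro p _ V _ _ _ ρ hirr hnt A B hcop a b hA hB
  by_cases hNt : ∃ (n : N) (v : V), ρ (N.subtype n) v ≠ v
  · by_contra hcon
    push Not at hcon
    obtain ⟨ha, hb⟩ := hcon
    obtain ⟨d, σ, hσ, hσn, h, a', b', ha', hb', hA', hB'⟩ := red_step p N.subtype
      (by rw [Subgroup.range_subtype]; exact hN) ρ hirr hNt A B a b ha hb hA hB
    -- the two subgroups of `N`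
    let A1 : Subgroup N := (A.map (MulAut.conj h).toMonoidHom).subgroupOf N
    let B1 : Subgroup N := B.subgroupOf N
    have hA1 : A1.index ∣ A.index := by
      have e1 : (A.map (MulAut.conj h).toMonoidHom).index = A.index :=
        Subgroup.index_map_of_bijective (MulAut.conj h).bijective A
      rw [← e1]
      exact relIndex_dvd _ N
    have hB1 : B1.index ∣ B.index := relIndex_dvd _ N
    rcases h1 p (Fin d → ZMod p) σ hσ hσn A1 B1
      (Nat.Coprime.of_dvd_left hA1 (Nat.Coprime.of_dvd_right hB1 hcop)) a' b' (by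
        intro n hn
        apply hA'
        rw [Subgroup.mem_subgroupOf] at hn
        obtain ⟨y, hy, hyn⟩ := hn
        have : (n : H) = h * y * h⁻¹ := hyn.symm
        have e : h⁻¹ * N.subtype n * h = y := by
          show h⁻¹ * (n : H) * h = y
          rw [this]; group
        rw [e]
        exact hy) (by
        intro n hn
        exact hB' n hn) with h3 | h3
    · exact ha' h3
    · exact hb' h3
  · push Not at hNt
    have hker : ∀ n ∈ N, ρ n = 1 := by
      intro n hn
      apply LinearMap.ext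
      intro v
      exact hNt ⟨n, hn⟩ v
    let σ : Representation (ZMod p) (H ⧸ N) V := QuotientGroup.lift N ρ hker
    have hσ : ∀ h : H, σ (QuotientGroup.mk' N h) = ρ h := fun h => rfl
    have hidx : ∀ A : Subgroup H, (A.map (QuotientGroup.mk' N)).index ∣ A.index := fun A =>
      Subgroup.index_map_dvd A (QuotientGroup.mk'_surjective N)
    refine h2 p V σ ?_ ?_ (A.map (QuotientGroup.mk' N)) (B.map (QuotientGroup.mk' N))
      (Nat.Coprime.of_dvd_left (hidx A) (Nat.Coprime.of_dvd_right (hidx B) hcop)) a b ?_ ?_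
    · intro W hW
      exact hirr W (fun h w hw => hW (QuotientGroup.mk' N h) w hw)
    · obtain ⟨h, v, hhv⟩ := hnt
      exact ⟨QuotientGroup.mk' N h, v, hhv⟩
    · rintro _ ⟨x, hx, rfl⟩
      exact hA x hx
    · rintro _ ⟨x, hx, rfl⟩
      exact hB x hx

/-- The row holds for groups of prime order and more generally when one of two subgroups of coprime
indices must be the whole group. -/
theorem copRow_of_index {H : Type*} [Group H]
    (h : ∀ A B : Subgroup H, A.index.Coprime B.index → A = ⊤ ∨ B = ⊤) : CopRow H := by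
  intro p _ V _ _ _ ρ hirr hnt A B hcop a b hA hB
  rcases h A B hcop with rfl | rfl
  · exact Or.inl (eq_zero_of_fixed hirr hnt a (fun x => hA x trivial))
  · exact Or.inr (eq_zero_of_fixed hirr hnt b (fun x => hB x trivial))

/-- A commutative simple group satisfies the row. -/
theorem copRow_of_comm {S : Type*} [Group S] [Finite S] [IsSimpleGroup S]
    (hc : ∀ x y : S, x * y = y * x) : CopRow S := by
  apply copRow_of_index
  intro A B hcop
  have key : ∀ X : Subgroup S, X = ⊥ ∨ X = ⊤ := by
    intro X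
    have : X.Normal := ⟨fun n hn g => by rwa [hc g n, mul_inv_cancel_right]⟩
    exact IsSimpleGroup.eq_bot_or_eq_top_of_normal X this
  rcases key A with rfl | rfl
  · rcases key B with rfl | rfl
    · exfalso
      rw [Nat.coprime_self, Subgroup.index_bot] at hcop
      exact (Finite.one_lt_card (α := S)).ne' hcop
    · exact Or.inr rfl
  · exact Or.inl rfl

/-- The trivial group satisfies the row. -/
theorem copRow_of_subsingleton {H : Type*} [Group H] [Subsingleton H] : CopRow H := by
  apply copRow_of_index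
  intro A B _
  left
  exact Subsingleton.elim _ _

/-- **Reduction to non-abelian simple groups.** -/
theorem copRow_of_simple
    (hrow : ∀ (S : Type u) [Group S] [Finite S] [IsSimpleGroup S], (∃ x y : S, x * y ≠ y * x) →
      CopRow S) : ∀ (H : Type u) [Group H] [Finite H], CopRow H := by
  have key : ∀ n : ℕ, ∀ (H : Type u) [Group H] [Finite H], Nat.card H = n → CopRow H := by
    intro n
    induction n using Nat.strong_induction_on with
    | _ n ih =>
      intro H _ _ hn
      subst hn
      rcases subsingleton_or_nontrivial H with h0 | h0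
      · exact copRow_of_subsingleton
      by_cases hs : IsSimpleGroup H
      · by_cases hc : ∃ x y : H, x * y ≠ y * x
        · exact hrow H hc
        · push Not at hc
          exact copRow_of_comm hc
      · obtain ⟨N, hN, hN1, hN2⟩ : ∃ N : Subgroup H, N.Normal ∧ N ≠ ⊥ ∧ N ≠ ⊤ := by
          by_contra hcon
          push Not at hcon
          apply hs
          refine ⟨fun N hN => ?_⟩
          by_cases h : N = ⊥
          · exact Or.inl h
          · exact Or.inr (hcon N hN h)
        have hcN : Nat.card N < Nat.card H := by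
          have h1 := N.card_mul_index
          have h2 : 1 < N.index := by
            have h3 : N.index ≠ 1 := by rwa [Ne, Subgroup.index_eq_one]
            have h4 : N.index ≠ 0 := Subgroup.index_ne_zero_of_finite
            omega
          have h3 : 0 < Nat.card N := Nat.card_pos
          nlinarith
        have hcQ : Nat.card (H ⧸ N) < Nat.card H := by
          have h1 := N.card_mul_index
          have h2 : 1 < Nat.card N := by
            have h3 : Nat.card N ≠ 1 := by rwa [Ne, Subgroup.card_eq_one]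
            have h4 : 0 < Nat.card N := Nat.card_pos
            omega
          have h3 : 0 < N.index := Nat.pos_of_ne_zero Subgroup.index_ne_zero_of_finite
          rw [Subgroup.index] at h1 h3
          nlinarith
        exact copRow_of_normal N (ih _ hcN N rfl) (ih _ hcQ (H ⧸ N) rfl)
  intro H _ _
  exact key _ H rfl

/-! ### The statement over an arbitrary field -/

/-- **S4175 from the row predicate.** -/
theorem not_coprime_of_copRow {k V H : Type*} [Field k] [AddCommGroup V] [Module k V] [Group H]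
    [Finite H] (hH : CopRow H) (ρ : Representation k H V) (hirr : Irr ρ) (hnt : Nontriv ρ)
    (A B : Subgroup H) (hcop : A.index.Coprime B.index) (a b : V) (hA : ∀ x ∈ A, ρ x a = a)
    (hB : ∀ x ∈ B, ρ x b = b) : a = 0 ∨ b = 0 := by
  by_contra hcon
  push Not at hcon
  obtain ⟨ha, hb⟩ := hcon
  obtain ⟨p, hp⟩ := CharP.exists k
  rcases CharP.char_is_prime_or_zero k p with hpp | hp0
  · have : Fact p.Prime := ⟨hpp⟩
    obtain ⟨d, σ, hσ, hσn, h, a', b', ha', hb', hA', hB'⟩ := red_step p (MonoidHom.id H)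
      (by
        have : (MonoidHom.id H).range = ⊤ := MonoidHom.range_eq_top.2 Function.surjective_id
        rw [this]
        infer_instance) ρ hirr hnt A B a b ha hb hA hB
    rcases hH p (Fin d → ZMod p) σ hσ hσn (A.map (MulAut.conj h).toMonoidHom) B (by
      rw [Subgroup.index_map_of_bijective (MulAut.conj h).bijective A]
      exact hcop) a' b' (by
        rintro _ ⟨y, hy, rfl⟩
        apply hA'
        have e : h⁻¹ * MonoidHom.id H ((MulAut.conj h).toMonoidHom y) * h = y := by
          show h⁻¹ * (h * y * h⁻¹) * h = y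
          group
        rw [e]
        exact hy) (by
        intro n hn
        exact hB' n hn) with h3 | h3
    · exact ha' h3
    · exact hb' h3
  · subst hp0
    have : CharZero k := CharP.charP_to_charZero k
    rcases of_card_ne_zero hirr hnt A B hcop a b hA hB
      (Nat.cast_ne_zero.2 Nat.card_pos.ne') with h | h
    · exact ha h
    · exact hb h

/-- **S4175 from the row predicate**, in the form of the statement. -/
theorem orbit_not_coprime {k V H : Type*} [Field k] [AddCommGroup V] [Module k V] [Group H]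
    [Finite H] (hH : CopRow H) (ρ : Representation k H V) (hirr : Irr ρ) (hnt : Nontriv ρ)
    (a b : V) (ha : a ≠ 0) (hb : b ≠ 0) :
    ¬ (Nat.card {u : V | ∃ h : H, ρ h a = u}).Coprime (Nat.card {u : V | ∃ h : H, ρ h b = u}) := by
  intro hcop
  rw [card_orbit, card_orbit] at hcop
  rcases not_coprime_of_copRow hH ρ hirr hnt (stab ρ a) (stab ρ b) hcop a b (fun x hx => hx)
    (fun x hx => hx) with h | h
  · exact ha h
  · exact hb h

/-! ### Completely reducible modules -/

section cr

variable {k V H : Type*} [Field k] [AddCommGroup V] [Module k V] [Group H]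

/-- In a completely reducible module every non-zero vector survives in an irreducible quotient. -/
theorem exists_max (ρ : Representation k H V)
    (hcr : ∀ W : Submodule k V, (∀ h : H, ∀ w ∈ W, ρ h w ∈ W) →
      ∃ W' : Submodule k V, (∀ h : H, ∀ w ∈ W', ρ h w ∈ W') ∧ IsCompl W W') (d : V) (hd : d ≠ 0) :
    ∃ X : Submodule k V, (∀ h : H, ∀ w ∈ X, ρ h w ∈ X) ∧ d ∉ X ∧
      ∀ Y : Submodule k V, (∀ h : H, ∀ w ∈ Y, ρ h w ∈ Y) → X < Y → Y = ⊤ := by
  obtain ⟨X, -, hX⟩ := zorn_le_nonempty₀
    {X : Submodule k V | (∀ h : H, ∀ w ∈ X, ρ h w ∈ X) ∧ d ∉ X} (by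
    intro c hc hch y hy
    refine ⟨sSup c, ⟨?_, ?_⟩, fun z hz => le_sSup hz⟩
    · intro n w hw
      rw [Submodule.mem_sSup_of_directed ⟨y, hy⟩ hch.directedOn] at hw ⊢
      obtain ⟨z, hz, hwz⟩ := hw
      exact ⟨z, hz, (hc hz).1 n w hwz⟩
    · rw [Submodule.mem_sSup_of_directed ⟨y, hy⟩ hch.directedOn]
      rintro ⟨z, hz, hbz⟩
      exact (hc hz).2 hbz) ⊥ ⟨by
        intro n w hw
        rw [Submodule.mem_bot] at hw ⊢
        rw [hw, map_zero], by rwa [Submodule.mem_bot]⟩
  refine ⟨X, hX.1.1, hX.1.2, ?_⟩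
  intro Y hY hXY
  have hXmax : ∀ Y : Submodule k V, (∀ h : H, ∀ w ∈ Y, ρ h w ∈ Y) → X < Y → d ∈ Y := by
    intro Y hY hXY
    by_contra hbY
    exact hXY.not_ge (hX.2 ⟨hY, hbY⟩ hXY.le)
  have hdY := hXmax Y hY hXY
  obtain ⟨Y', hY'inv, hY'⟩ := hcr Y hY
  by_contra hYtop
  have hY'0 : Y' ≠ ⊥ := by
    rintro rfl
    exact hYtop (by simpa using hY'.codisjoint.eq_top)
  have h1 : X < X ⊔ Y' := by
    refine lt_of_le_of_ne le_sup_left ?_
    intro heq
    apply hY'0
    rw [eq_bot_iff, ← hY'.disjoint.eq_bot]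
    refine le_inf ?_ le_rfl
    calc Y' ≤ X ⊔ Y' := le_sup_right
      _ = X := heq.symm
      _ ≤ Y := hXY.le
  have h2 : d ∈ X ⊔ Y' := by
    apply hXmax _ _ h1
    intro n w hw
    rw [Submodule.mem_sup] at hw ⊢
    obtain ⟨x, hx, y, hy, rfl⟩ := hw
    exact ⟨ρ n x, hX.1.1 n x hx, ρ n y, hY'inv n y hy, (map_add _ _ _).symm⟩
  rw [Submodule.mem_sup] at h2
  obtain ⟨x, hx, y, hy, hxy⟩ := h2
  have h3 : y ∈ Y ⊓ Y' := by
    refine ⟨?_, hy⟩
    have : y = d - x := by rw [← hxy]; abel
    rw [this]
    exact sub_mem hdY (hXY.le hx)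
  rw [hY'.disjoint.eq_bot, Submodule.mem_bot] at h3
  rw [h3, add_zero] at hxy
  apply hX.1.2
  rw [← hxy]
  exact hx

/-- The quotient of a representation by an invariant subspace. -/
def quo (ρ : Representation k H V) (X : Submodule k V) (hX : ∀ h : H, ∀ w ∈ X, ρ h w ∈ X) :
    Representation k H (V ⧸ X) where
  toFun h := X.mapQ X (ρ h) (fun w hw => hX h w hw)
  map_one' := by
    apply LinearMap.ext
    intro w
    obtain ⟨v, rfl⟩ := X.mkQ_surjective w
    rw [Submodule.mkQ_apply, Submodule.mapQ_apply, map_one, Module.End.one_apply,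
      Module.End.one_apply]
  map_mul' := by
    intro m n
    apply LinearMap.ext
    intro w
    obtain ⟨v, rfl⟩ := X.mkQ_surjective w
    rw [Submodule.mkQ_apply, Submodule.mapQ_apply, Module.End.mul_apply, Submodule.mapQ_apply,
      Submodule.mapQ_apply, map_mul, Module.End.mul_apply]

theorem quo_mk (ρ : Representation k H V) (X : Submodule k V) (hX : ∀ h : H, ∀ w ∈ X, ρ h w ∈ X)
    (h : H) (v : V) : quo ρ X hX h (X.mkQ v) = X.mkQ (ρ h v) := rfl

theorem quo_irr (ρ : Representation k H V) (X : Submodule k V) (hX : ∀ h : H, ∀ w ∈ X, ρ h w ∈ X)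
    (hco : ∀ Y : Submodule k V, (∀ h : H, ∀ w ∈ Y, ρ h w ∈ Y) → X < Y → Y = ⊤) :
    Irr (quo ρ X hX) := by
  intro W hW
  have hWinv : ∀ h : H, ∀ w ∈ W.comap X.mkQ, ρ h w ∈ W.comap X.mkQ := by
    intro n w hw
    rw [Submodule.mem_comap] at hw ⊢
    rw [← quo_mk ρ X hX]
    exact hW n _ hw
  rcases (Submodule.le_comap_mkQ X W).lt_or_eq with h | h
  · right
    rw [eq_top_iff]
    intro w _
    obtain ⟨v, rfl⟩ := X.mkQ_surjective w
    have : v ∈ W.comap X.mkQ := by rw [hco _ hWinv h]; trivial
    exact this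
  · left
    rw [eq_bot_iff]
    intro w hw
    obtain ⟨v, rfl⟩ := X.mkQ_surjective w
    have : v ∈ W.comap X.mkQ := hw
    rw [← h] at this
    rw [Submodule.mem_bot, Submodule.mkQ_apply, Submodule.Quotient.mk_eq_zero]
    exact this

/-- **S4174 from the row predicate.** -/
theorem stab_add [Finite H] (hH : CopRow H) (ρ : Representation k H V)
    (hcr : ∀ W : Submodule k V, (∀ h : H, ∀ w ∈ W, ρ h w ∈ W) →
      ∃ W' : Submodule k V, (∀ h : H, ∀ w ∈ W', ρ h w ∈ W') ∧ IsCompl W W')
    (a b : V) (hcop : (stab ρ a).index.Coprime (stab ρ b).index) :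
    stab ρ (a + b) = stab ρ a ⊓ stab ρ b := by
  apply le_antisymm
  · intro h hh
    rw [mem_stab, map_add] at hh
    have hd : ρ h a - a = b - ρ h b := by
      rw [sub_eq_sub_iff_add_eq_add, hh, add_comm]
    have hd0 : ρ h a - a = 0 := by
      by_contra hne
      obtain ⟨X, hX, hdX, hco⟩ := exists_max ρ hcr _ hne
      have hirr := quo_irr ρ X hX hco
      have hdX' : X.mkQ (ρ h a - a) ≠ 0 := by
        rw [Submodule.mkQ_apply, Ne, Submodule.Quotient.mk_eq_zero]
        exact hdX
      by_cases hnt : Nontriv (quo ρ X hX)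
      · rcases not_coprime_of_copRow hH (quo ρ X hX) hirr hnt (stab ρ a) (stab ρ b) hcop
          (X.mkQ a) (X.mkQ b) (fun x hx => by rw [quo_mk, mem_stab.1 hx])
          (fun x hx => by rw [quo_mk, mem_stab.1 hx]) with h1 | h1
        · apply hdX'
          rw [map_sub, ← quo_mk ρ X hX, h1, map_zero, sub_zero]
        · apply hdX'
          rw [hd, map_sub, ← quo_mk ρ X hX, h1, map_zero, sub_zero]
      · apply hdX'
        rw [map_sub, ← quo_mk ρ X hX, sub_eq_zero]
        by_contra h1
        exact hnt ⟨h, _, h1⟩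
    refine ⟨?_, ?_⟩
    · exact sub_eq_zero.1 hd0
    · rw [hd0] at hd
      exact (sub_eq_zero.1 hd.symm).symm
  · rintro h ⟨h1, h2⟩
    rw [mem_stab, map_add]
    rw [mem_stab.1 h1, mem_stab.1 h2]

theorem orbit_add [Finite H] (hH : CopRow H) (ρ : Representation k H V)
    (hcr : ∀ W : Submodule k V, (∀ h : H, ∀ w ∈ W, ρ h w ∈ W) →
      ∃ W' : Submodule k V, (∀ h : H, ∀ w ∈ W', ρ h w ∈ W') ∧ IsCompl W W')
    (a b : V) (hcop : (Nat.card {u : V | ∃ h : H, ρ h a = u}).Coprime
      (Nat.card {u : V | ∃ h : H, ρ h b = u})) :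
    {h : H | ρ h (a + b) = a + b} = {h : H | ρ h a = a} ∩ {h : H | ρ h b = b} ∧
    Nat.card {u : V | ∃ h : H, ρ h (a + b) = u} =
      Nat.card {u : V | ∃ h : H, ρ h a = u} * Nat.card {u : V | ∃ h : H, ρ h b = u} := by
  rw [card_orbit, card_orbit] at hcop
  have h := stab_add hH ρ hcr a b hcop
  constructor
  · have := congrArg (fun K : Subgroup H => (K : Set H)) h
    exact this
  · rw [card_orbit, card_orbit, card_orbit, h, Cfsg.Agent.S0007.index_inf _ _ hcop]

end cr

end Cfsg.Agent.H505.Cop
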