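import Mathlib
import Cfsg.Agent.H505.Cop.Red
import Cfsg.Agent.Mrg.Omega.ML.LieRow.Bld
import Cfsg.Agent.S0320

/-!
# Coprime orbits: groups with a split (B,N)-pair (S4175, S4174)

`G` acts on its building `Δ`, `S : Sys Δ G p`.  If `V` is an irreducible `F_ℓ G`-module and `v ≠ 0` is fixed
by `A ≥ U_c`, then there is a non-zero functional fixed by a subgroup of order `|A ∩ G_c|`:

* `ℓ = p` : a functional fixed by `U_d` (`d` opposite `c`) which does not vanish at `v` (`exists_functional`);
* `ℓ ≠ p` : averaging over `U_c` (`T` abelian).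
-/

set_option autoImplicit false
set_option linter.unusedSectionVars false

namespace Cfsg.Agent.H505.Cop

open Cfsg.Agent.Tits.Core Cfsg.Agent.Tits.Core.Bldg Cfsg.Agent.Tits.Exchange Cfsg.Agent.Tits
open Cfsg.Agent.FixBN Cfsg.Agent.FixBN.Cox Cfsg.Agent.Omega.ML.LieRow

section

variable {I : Type*} {M : CoxeterMatrix I} {W : Type*} [Group W] {cs : CoxeterSystem M W} {C : Type*}
  {Δ : Bldg cs C} {G : Type*} [Group G] [MulAction G C] {p : ℕ}

/-- an element which is not the longest one has an ascent -/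
theorem exists_ascent [F : OppRes.Cox cs] {w : W} (hw : w ≠ w0 cs) :
    ∃ i, cs.length w < cs.length (w * cs.simple i) := by
  have h1 : w0 cs * w ≠ 1 := by
    intro h
    apply hw
    rw [← F.w0_inv]
    exact eq_inv_of_mul_eq_one_right h
  obtain ⟨i, -, hi⟩ := F.exists_descent (J := Set.univ) (v := w0 cs * w) (by rw [OppRes.WJ_univ]; trivial) h1
  refine ⟨i, ?_⟩
  have h2 := F.len_w0_mul w
  have h3 := F.len_w0_mul (w * cs.simple i)
  rw [← mul_assoc] at h3
  omega

variable {k V : Type*} [Field k] [AddCommGroup V] [Module k V]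

/-- functionals fixed by a subgroup -/
def FixF (ρ : Representation k G V) (X : Subgroup G) (f : V →ₗ[k] k) : Prop :=
  ∀ x ∈ X, ∀ v, f (ρ x v) = f v

theorem FixF.comp {ρ : Representation k G V} {X Y : Subgroup G} {f : V →ₗ[k] k} (h : FixF ρ X f) {g : G}
    (hg : ∀ y ∈ Y, g * y * g⁻¹ ∈ X) : FixF ρ Y (f ∘ₗ ρ g) := by
  intro y hy v
  rw [LinearMap.comp_apply, LinearMap.comp_apply, ← rho_mul_apply]
  have e : g * y = (g * y * g⁻¹) * g := by group
  rw [e, rho_mul_apply, h _ (hg y hy)]

variable (S : Sys Δ G p) [F : OppRes.Cox cs] [Finite G]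

/-- **Key lemma.** `v` fixed by `U_c` and killed by all functionals fixed by some `U_d`, `d` opposite `c`, is
killed by all functionals fixed by some `U_e`. -/
theorem eq_zero_of_opp (hth : Δ.Thick) (ρ : Representation k G V) {c : C} {v : V}
    (h0 : ∀ d, Δ.Opp c d → ∀ f : V →ₗ[k] k, FixF ρ (S.U d) f → f v = 0) :
    ∀ e : C, ∀ f : V →ₗ[k] k, FixF ρ (S.U e) f → f v = 0 := by
  classical
  have key : ∀ n : ℕ, ∀ e : C, cs.length (Δ.δ c e) + n = cs.length (w0 cs) →
      ∀ f : V →ₗ[k] k, FixF ρ (S.U e) f → f v = 0 := by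
    intro n
    induction n with
    | zero =>
      intro e he f hf
      apply h0 e ?_ f hf
      by_contra hne
      obtain ⟨i, hi⟩ := exists_ascent (cs := cs) hne
      have h2 := F.len_w0_mul (Δ.δ c e * cs.simple i)
      omega
    | succ n ih =>
      intro e he f hf
      have hne : Δ.δ c e ≠ w0 cs := by
        intro h
        rw [h] at he
        omega
      obtain ⟨i, hi⟩ := exists_ascent (cs := cs) hne
      have hl : cs.length (Δ.δ c e * cs.simple i) = cs.length (Δ.δ c e) + 1 := by
        rcases cs.length_mul_simple (Δ.δ c e) i with h | h <;> omega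
      have hfar : ∀ e', Δ.δ e e' = cs.simple i → ∀ f' : V →ₗ[k] k, FixF ρ (S.U e') f' → f' v = 0 := by
        intro e' he' f' hf'
        apply ih e' ?_ f' hf'
        rw [Δ.step_lt c e e' i he' hi, hl]
        omega
      obtain ⟨d, -, -, hd, -⟩ := hth e i
      have hde : Δ.δ d e = cs.simple i := Δ.δ_symm_simple hd
      -- the other chambers of the panel of `d`
      let Q := {x : C // Δ.δ d x = cs.simple i}
      have hQ : ∀ x : Q, ∃ u ∈ S.U d, u • x.1 = e := fun x => S.exists_move (x.2.trans hde.symm)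
      choose u hu hue using hQ
      have hQfin : Finite Q := by
        refine Finite.of_injective u ?_
        intro x y hxy
        apply Subtype.ext
        have h1 := hue x
        rw [hxy, ← hue y] at h1
        exact MulAction.injective _ h1
      have hQft : Fintype Q := Fintype.ofFinite Q
      -- independence of the choice
      have hind : ∀ (x : Q) (g : G), g ∈ S.U d → g • x.1 = e → f ∘ₗ ρ g = f ∘ₗ ρ (u x) := by
        intro x g hg hge
        apply LinearMap.ext
        intro w
        rw [LinearMap.comp_apply, LinearMap.comp_apply]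
        have h1 : g * (u x)⁻¹ ∈ S.U d := mul_mem hg (inv_mem (hu x))
        have h2 : (g * (u x)⁻¹) • e = e := by
          rw [mul_smul, ← hue x, inv_smul_smul, hge, hue x]
        have h3 : g * (u x)⁻¹ ∈ S.U e := by
          have hp := S.isP d
          refine S.max e (Subgroup.zpowers (g * (u x)⁻¹)) ?_ ?_ (Subgroup.mem_zpowers _)
          · exact hp.to_le (by rw [Subgroup.zpowers_le]; exact h1)
          · intro y hy
            have : Subgroup.zpowers (g * (u x)⁻¹) ≤ MulAction.stabilizer G e := by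
              rw [Subgroup.zpowers_le]
              exact h2
            exact this hy
        have e1 : g = (g * (u x)⁻¹) * u x := by group
        rw [e1, rho_mul_apply, hf _ h3]
      let N : V →ₗ[k] k := ∑ x : Q, f ∘ₗ ρ (u x)
      have hN : FixF ρ (S.U d) N := by
        intro z hz w
        simp only [N, LinearMap.sum_apply, LinearMap.comp_apply]
        have hzQ : ∀ x : Q, Δ.δ d (z⁻¹ • x.1) = cs.simple i := by
          intro x
          have h1 : z⁻¹ • d = d := S.fix d _ (inv_mem hz)
          have h2 := S.iso z⁻¹ d x.1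
          rwa [h1, x.2] at h2
        have hzQ' : ∀ x : Q, Δ.δ d (z • x.1) = cs.simple i := by
          intro x
          have h1 : z • d = d := S.fix d _ hz
          have h2 := S.iso z d x.1
          rwa [h1, x.2] at h2
        let E : Q ≃ Q :=
          { toFun := fun x => ⟨z⁻¹ • x.1, hzQ x⟩
            invFun := fun x => ⟨z • x.1, hzQ' x⟩
            left_inv := fun x => Subtype.ext (smul_inv_smul z x.1)
            right_inv := fun x => Subtype.ext (inv_smul_smul z x.1) }
        refine Fintype.sum_equiv E _ _ ?_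
        intro x
        rw [← rho_mul_apply]
        have h1 := hind (E x) (u x * z) (mul_mem (hu x) hz) (by
          show (u x * z) • z⁻¹ • x.1 = e
          rw [mul_smul, smul_inv_smul, hue])
        exact LinearMap.congr_fun h1 w
      have hN0 : N v = 0 := hfar d hd N hN
      simp only [N, LinearMap.sum_apply, LinearMap.comp_apply] at hN0
      let e0 : Q := ⟨e, hde⟩
      rw [Finset.sum_eq_single e0] at hN0
      · have h1 := hind e0 1 (one_mem _) (one_smul _ _)
        have h2 := LinearMap.congr_fun h1 v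
        rw [LinearMap.comp_apply, LinearMap.comp_apply, map_one, Module.End.one_apply] at h2
        rw [h2]
        exact hN0
      · intro x _ hx
        have hxe : x.1 ≠ e := fun h => hx (Subtype.ext h)
        have h1 : Δ.δ e x.1 = cs.simple i := by
          apply Δ.δ_eq_of_mem_Pan (x := d) (Or.inr hde) (Or.inr x.2)
          exact fun h => hxe h.symm
        refine hfar x.1 h1 (f ∘ₗ ρ (u x)) (hf.comp ?_)
        intro y hy
        have h2 := S.conj_mem_U hy (u x)
        rwa [hue x] at h2
      · intro h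
        exact absurd (Finset.mem_univ _) h
  intro e f hf
  have h1 := F.len_w0_mul (Δ.δ c e)
  exact key (cs.length (w0 cs) - cs.length (Δ.δ c e)) e (by omega) f hf

end

/-! ### Fixed functionals of `ℓ`-groups -/

section fix

variable {G V : Type*} [Group G] [Finite G] {ℓ : ℕ} [hl : Fact ℓ.Prime] [AddCommGroup V] [Module (ZMod ℓ) V] [Finite V]

/-- A non-zero subspace of the dual which is stable under an `ℓ`-group contains a non-zero fixed functional. -/
theorem exists_fix_of_pgroup (ρ : Representation (ZMod ℓ) G V) (P : Subgroup G) (hP : IsPGroup ℓ P)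
    (E : Submodule (ZMod ℓ) (V →ₗ[ZMod ℓ] ZMod ℓ)) (hE : ∀ g ∈ P, ∀ f ∈ E, f ∘ₗ ρ g ∈ E) (hE0 : E ≠ ⊥) :
    ∃ f ∈ E, f ≠ 0 ∧ FixF ρ P f := by
  classical
  let act : MulAction P E :=
    { smul := fun g f => ⟨f.1 ∘ₗ ρ (g : G)⁻¹, hE _ (inv_mem g.2) _ f.2⟩
      one_smul := fun f => by
        apply Subtype.ext
        apply LinearMap.ext
        intro v
        show f.1 (ρ ((1 : P) : G)⁻¹ v) = f.1 v
        rw [Subgroup.coe_one, inv_one, map_one, Module.End.one_apply]
      mul_smul := fun g h f => by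
        apply Subtype.ext
        apply LinearMap.ext
        intro v
        show f.1 (ρ ((g * h : P) : G)⁻¹ v) = f.1 (ρ (h : G)⁻¹ (ρ (g : G)⁻¹ v))
        rw [Subgroup.coe_mul, mul_inv_rev, rho_mul_apply] }
  have hfin : Finite (V →ₗ[ZMod ℓ] ZMod ℓ) := Finite.of_injective (fun f => (f : V → ZMod ℓ)) DFunLike.coe_injective
  have hfinE : Finite E := inferInstance
  have hnt : Nontrivial E := Submodule.nontrivial_iff_ne_bot.2 hE0
  have hcard : ℓ ∣ Nat.card E := by
    have h1 : Nat.card E = ℓ ^ Module.finrank (ZMod ℓ) E := by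
      rw [Module.natCard_eq_pow_finrank (K := ZMod ℓ), Nat.card_zmod]
    rw [h1]
    exact dvd_pow_self ℓ (Module.finrank_pos (R := ZMod ℓ) (M := E)).ne'
  have h0 : (0 : E) ∈ MulAction.fixedPoints P E := by
    intro g
    apply Subtype.ext
    apply LinearMap.ext
    intro v
    rfl
  obtain ⟨f, hf, hf0⟩ := hP.exists_fixed_point_of_prime_dvd_card_of_fixed_point E hcard h0
  refine ⟨f.1, f.2, ?_, ?_⟩
  · intro h
    apply hf0
    apply Subtype.ext
    exact h.symm
  · intro x hx v
    have h1 := hf (⟨x, hx⟩ : P)⁻¹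
    have h2 := LinearMap.congr_fun (congrArg Subtype.val h1) v
    have h3 : f.1 (ρ (((⟨x, hx⟩ : P)⁻¹ : P) : G)⁻¹ v) = f.1 v := h2
    rwa [Subgroup.coe_inv, inv_inv] at h3

/-- Averaging a functional over a group of order prime to `ℓ`. -/
theorem exists_average (ρ : Representation (ZMod ℓ) G V) (K : Subgroup G) (hK : ¬ ℓ ∣ Nat.card K) {v : V}
    (hv : ∀ x ∈ K, ρ x v = v) (f : V →ₗ[ZMod ℓ] ZMod ℓ) (hf : f v ≠ 0) :
    ∃ f' : V →ₗ[ZMod ℓ] ZMod ℓ, FixF ρ K f' ∧ f' v ≠ 0 ∧
      ∀ U : Subgroup G, (∀ t ∈ K, ∀ u ∈ U, t * u * t⁻¹ ∈ U) → FixF ρ U f → FixF ρ U f' := by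
  classical
  have hfin : Fintype K := Fintype.ofFinite _
  refine ⟨∑ x : K, f ∘ₗ ρ (x : G), ?_, ?_, ?_⟩
  · intro y hy w
    simp only [LinearMap.sum_apply, LinearMap.comp_apply]
    refine Fintype.sum_equiv (Equiv.mulRight ⟨y, hy⟩) _ _ ?_
    intro x
    rw [← rho_mul_apply]
    rfl
  · simp only [LinearMap.sum_apply, LinearMap.comp_apply]
    rw [Finset.sum_congr rfl (fun x _ => by rw [hv x.1 x.2]), Finset.sum_const, Finset.card_univ,
      nsmul_eq_mul]
    refine mul_ne_zero ?_ hf
    rw [← Nat.card_eq_fintype_card, Ne, ZMod.natCast_eq_zero_iff]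
    exact hK
  · intro U hU hfU y hy w
    simp only [LinearMap.sum_apply, LinearMap.comp_apply]
    refine Finset.sum_congr rfl fun x _ => ?_
    have h1 := FixF.comp (Y := U) hfU (g := (x : G)) (fun y hy => hU x.1 x.2 y hy) y hy w
    rwa [LinearMap.comp_apply, LinearMap.comp_apply] at h1

/-- **The torus step**: a functional fixed by `U'` which does not vanish at a vector fixed by the abelian group
`T'` normalising `U'` gives a non-zero functional fixed by `U' T'`. -/
theorem torus_fix (ρ : Representation (ZMod ℓ) G V) {U' T' : Subgroup G}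
    (hn : ∀ t ∈ T', ∀ u ∈ U', t * u * t⁻¹ ∈ U') (hab : ∀ x ∈ T', ∀ y ∈ T', x * y = y * x) {v : V}
    (hv : ∀ t ∈ T', ρ t v = v) {f : V →ₗ[ZMod ℓ] ZMod ℓ} (hf : FixF ρ U' f) (hfv : f v ≠ 0) :
    ∃ f' : V →ₗ[ZMod ℓ] ZMod ℓ, f' ≠ 0 ∧ FixF ρ (U' ⊔ T') f' := by
  classical
  -- the Sylow `ℓ`-subgroup of `T'` and its complement
  obtain ⟨X⟩ : Nonempty (Sylow ℓ T') := inferInstance
  have hXn : (X : Subgroup T').Normal := by
    constructor
    intro n hn g
    have : g * n * g⁻¹ = n := by
      have h1 := hab g.1 g.2 n.1 n.2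
      apply Subtype.ext
      show (g : G) * n * (g : G)⁻¹ = n
      rw [h1, mul_inv_cancel_right]
    rwa [this]
  have hcop : Nat.Coprime (Nat.card (X : Subgroup T')) (X : Subgroup T').index := by
    obtain ⟨m, hm⟩ := X.2.exists_card_eq
    rw [hm]
    exact Nat.Coprime.pow_left _ ((Nat.Prime.coprime_iff_not_dvd hl.out).2 X.not_dvd_index)
  obtain ⟨K, hK⟩ := Subgroup.exists_right_complement'_of_coprime hcop
  have hKc : ¬ ℓ ∣ Nat.card K := by
    have h1 : Nat.card K = (X : Subgroup T').index := hK.symm.card_left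
    rw [h1]
    exact X.not_dvd_index
  let K0 : Subgroup G := K.map T'.subtype
  let X0 : Subgroup G := (X : Subgroup T').map T'.subtype
  have hK0 : K0 ≤ T' := Subgroup.map_subtype_le K
  have hX0 : X0 ≤ T' := Subgroup.map_subtype_le _
  have hK0c : ¬ ℓ ∣ Nat.card K0 := by
    rwa [Nat.card_congr (K.equivMapOfInjective T'.subtype T'.subtype_injective).symm.toEquiv]
  have hX0p : IsPGroup ℓ X0 := X.2.map _
  have hT' : T' ≤ K0 ⊔ X0 := by
    intro t ht
    have h1 : (⟨t, ht⟩ : T') ∈ (X : Subgroup T') ⊔ K := by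
      rw [hK.sup_eq_top]; trivial
    have h2 : T'.subtype ⟨t, ht⟩ ∈ ((X : Subgroup T') ⊔ K).map T'.subtype := ⟨_, h1, rfl⟩
    rw [Subgroup.map_sup, sup_comm] at h2
    exact h2
  obtain ⟨f1, hf1, hf1v, hf1U⟩ := exists_average ρ K0 hK0c (fun x hx => hv x (hK0 hx)) f hfv
  have hf1U' : FixF ρ U' f1 := hf1U U' (fun t ht => hn t (hK0 ht)) hf
  -- the space of functionals fixed by `U'` and `K0`
  let E : Submodule (ZMod ℓ) (V →ₗ[ZMod ℓ] ZMod ℓ) :=
    { carrier := {g | FixF ρ U' g ∧ FixF ρ K0 g}
      add_mem' := by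
        rintro a b ⟨ha, ha'⟩ ⟨hb, hb'⟩
        refine ⟨fun x hx w => ?_, fun x hx w => ?_⟩
        · rw [LinearMap.add_apply, LinearMap.add_apply, ha x hx, hb x hx]
        · rw [LinearMap.add_apply, LinearMap.add_apply, ha' x hx, hb' x hx]
      zero_mem' := ⟨fun x _ w => rfl, fun x _ w => rfl⟩
      smul_mem' := by
        rintro c a ⟨ha, ha'⟩
        refine ⟨fun x hx w => ?_, fun x hx w => ?_⟩
        · rw [LinearMap.smul_apply, LinearMap.smul_apply, ha x hx]
        · rw [LinearMap.smul_apply, LinearMap.smul_apply, ha' x hx] }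
  have hf1E : f1 ∈ E := ⟨hf1U', hf1⟩
  have hf10 : f1 ≠ 0 := by
    rintro rfl
    exact hf1v rfl
  obtain ⟨f2, hf2, hf20, hf2X⟩ := exists_fix_of_pgroup ρ X0 hX0p E (by
    intro g hg a ha
    refine ⟨ha.1.comp (fun y hy => hn g (hX0 hg) y hy), ha.2.comp (fun y hy => ?_)⟩
    have : g * y * g⁻¹ = y := by rw [hab g (hX0 hg) y (hK0 hy), mul_inv_cancel_right]
    rwa [this]) (by
    intro h
    apply hf10
    rwa [h, Submodule.mem_bot] at hf1E)
  refine ⟨f2, hf20, ?_⟩
  -- fixed by the join
  let Z : Subgroup G :=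
    { carrier := {x | ∀ w, f2 (ρ x w) = f2 w}
      mul_mem' := by
        intro x y hx hy w
        rw [rho_mul_apply, hx, hy]
      one_mem' := by
        intro w
        rw [map_one, Module.End.one_apply]
      inv_mem' := by
        intro x hx w
        have := hx (ρ x⁻¹ w)
        rw [rho_apply_inv] at this
        exact this.symm }
  have hZ : U' ⊔ T' ≤ Z := by
    refine sup_le hf2.1 (hT'.trans (sup_le hf2.2 hf2X))
  intro x hx
  exact hZ hx

end fix

end Cfsg.Agent.H505.Cop
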