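import Mathlib
import Cfsg.Agent.H505.Cop.Bld

/-!
# Coprime orbits: the row theorem for groups with a split (B,N)-pair with commutative torus

`cop_of_sys` : if every prime divisor of `|H : G_c|` divides `|G : H|`, for all proper overgroups `H` of the stabiliser
of a chamber `c`, then `CopRow G`;  `copRow_of_split` : the form with `P : BNPair G`.
-/

set_option autoImplicit false
set_option linter.unusedSectionVars false

namespace Cfsg.Agent.H505.Cop

open Cfsg.Agent.Tits.Core Cfsg.Agent.Tits.Core.Bldg Cfsg.Agent.Tits.Exchange Cfsg.Agent.Tits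
open Cfsg.Agent.FixBN Cfsg.Agent.FixBN.Cox Cfsg.Agent.Omega.ML.LieRow

/-- a `p`-subgroup is contained in a conjugate of every subgroup of index prime to `p` -/
theorem exists_conj_le_of_index {G : Type*} [Group G] [Finite G] {p : ℕ} [hp : Fact p.Prime] {P U : Subgroup G}
    (hU : IsPGroup p U) (hPi : ¬ p ∣ P.index) : ∃ g : G, U ≤ P.map (MulAut.conj g).toMonoidHom := by
  obtain ⟨Q₀⟩ : Nonempty (Sylow p P) := inferInstance
  have h1 : ¬ p ∣ ((Q₀ : Subgroup P).map P.subtype).index := by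
    rw [Subgroup.index_map_subtype]
    intro hd
    rcases hp.out.dvd_mul.mp hd with h | h
    · exact Q₀.not_dvd_index h
    · exact hPi h
  have h2 : IsPGroup p ((Q₀ : Subgroup P).map P.subtype) := Q₀.isPGroup'.map _
  obtain ⟨Q, hQ⟩ := hU.exists_le_sylow
  obtain ⟨g, hg⟩ := MulAction.exists_smul_eq G (h2.toSylow h1) Q
  refine ⟨g, hQ.trans ?_⟩
  rw [← hg]
  change ((Q₀ : Subgroup P).map P.subtype).map (MulAut.conj g).toMonoidHom ≤ _
  exact Subgroup.map_mono (Subgroup.map_subtype_le _)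

section

variable {I : Type*} {M : CoxeterMatrix I} {W : Type*} [Group W] {cs : CoxeterSystem M W} {C : Type*}
  {Δ : Bldg cs C} {G : Type*} [Group G] [MulAction G C] {p : ℕ}

/-- orbit–stabiliser for a subgroup -/
theorem relIndex_stab [Finite G] (X : Subgroup G) (c : C) :
    (MulAction.stabilizer G c).relIndex X = {y : C | ∃ g ∈ X, g • c = y}.ncard := by
  have h1 : (MulAction.stabilizer G c).subgroupOf X = MulAction.stabilizer X c := by
    ext x
    rw [Subgroup.mem_subgroupOf, MulAction.mem_stabilizer_iff, MulAction.mem_stabilizer_iff]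
    rfl
  rw [Subgroup.relIndex, h1, MulAction.index_stabilizer]
  congr 1
  ext y
  constructor
  · rintro ⟨g, rfl⟩
    exact ⟨g, g.2, rfl⟩
  · rintro ⟨g, hg, rfl⟩
    exact ⟨⟨g, hg⟩, rfl⟩

variable (S : Sys Δ G p) [F : OppRes.Cox cs] [Finite G]

/-- the stabiliser of a residue -/
def parab (J : Set I) (c : C) : Subgroup G where
  carrier := {g | g • c ∈ Δ.Res J c}
  mul_mem' := by
    intro a b ha hb
    have h1 : a • b • c ∈ Δ.Res J (a • c) := by
      rw [mem_Res, S.iso]
      exact hb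
    rw [Set.mem_ofPred_eq, mul_smul]
    exact Δ.mem_Res_trans ha h1
  one_mem' := by
    rw [Set.mem_ofPred_eq, one_smul]
    exact Δ.self_mem_Res J c
  inv_mem' := by
    intro a ha
    have h1 : c ∈ Δ.Res J (a⁻¹ • c) := by
      rw [mem_Res, ← S.iso a, smul_inv_smul]
      exact ha
    exact Δ.mem_Res_symm h1

theorem mem_parab {J : Set I} {c : C} {g : G} : g ∈ parab S J c ↔ g • c ∈ Δ.Res J c := Iff.rfl

theorem parab_ne_top (hth : Δ.Thick) {J : Set I} (hJ : J ≠ Set.univ) (c : C) : parab S J c ≠ ⊤ := by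
  intro h
  apply hJ
  rw [Set.eq_univ_iff_forall]
  intro i
  obtain ⟨y, hy⟩ := Δ.exists_δ c (cs.simple i)
  obtain ⟨g, hg⟩ := exists_smul_top S hth c y
  have h1 : g ∈ parab S J c := by rw [h]; trivial
  rw [mem_parab, hg, mem_Res, hy] at h1
  refine F.descent_mem J _ h1 i ?_
  rw [cs.simple_mul_simple_self, cs.length_one, cs.length_simple]
  exact Nat.one_pos

/-- the index of the chamber stabiliser in an overgroup of `U c` -/
theorem relIndex_eq (hth : Δ.Thick) {A : Subgroup G} {c : C} (hA : S.U c ≤ A) :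
    (MulAction.stabilizer G c).relIndex A = (MulAction.stabilizer G c).relIndex (parab S (tp Δ A c) c) := by
  rw [relIndex_stab, relIndex_stab]
  congr 1
  ext y
  constructor
  · rintro ⟨g, hg, rfl⟩
    exact ⟨g, delta_mem_tp S hth hA g hg, rfl⟩
  · rintro ⟨g, hg, rfl⟩
    exact exists_smul S hA hg

theorem card_U_eq (hth : Δ.Thick) (c d : C) : Nat.card (S.U c) = Nat.card (S.U d) := by
  obtain ⟨g, rfl⟩ := exists_smul_top S hth c d
  have h1 : S.U (g • c) = (S.U c).map (MulAut.conj g).toMonoidHom := by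
    ext x
    constructor
    · intro hx
      refine ⟨g⁻¹ * x * g, ?_, ?_⟩
      · rw [SetLike.mem_coe, ← S.conj_mem_U_iff (g := g)]
        have : g * (g⁻¹ * x * g) * g⁻¹ = x := by group
        rwa [this]
      · change g * (g⁻¹ * x * g) * g⁻¹ = x
        group
    · rintro ⟨y, hy, rfl⟩
      exact S.conj_mem_U hy g
  rw [h1]
  exact Nat.card_congr ((S.U c).equivMapOfInjective _ (MulAut.conj g).injective).toEquiv

/-- the order of `A ∩ G_c` -/
theorem card_inf_stab {A : Subgroup G} {c d : C} (hA : S.U c ≤ A) (hd : Δ.Opp c d) :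
    Nat.card ↥(A ⊓ MulAction.stabilizer G c) =
      Nat.card (S.U c) * Nat.card ↥(A ⊓ MulAction.stabilizer G c ⊓ MulAction.stabilizer G d) := by
  have h1 : (MulAction.stabilizer G d).relIndex (A ⊓ MulAction.stabilizer G c) =
      (MulAction.stabilizer G d).relIndex (S.U c) := by
    rw [relIndex_stab, relIndex_stab]
    congr 1
    ext y
    constructor
    · rintro ⟨g, hg, rfl⟩
      have h2 : g • c = c := (Subgroup.mem_inf.1 hg).2
      have h3 : Δ.Opp c (g • d) := by
        unfold Bldg.Opp at hd ⊢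
        rw [← hd, ← S.iso g c d, h2]
      obtain ⟨u, hu, hud⟩ := S.trans _ _ _ hd h3
      exact ⟨u, hu, hud⟩
    · rintro ⟨u, hu, rfl⟩
      exact ⟨u, Subgroup.mem_inf.2 ⟨hA hu, S.fix _ _ hu⟩, rfl⟩
  have h2 : (MulAction.stabilizer G d).relIndex (S.U c) = Nat.card (S.U c) := by
    have h3 : MulAction.stabilizer G d ⊓ S.U c = ⊥ := by
      rw [eq_bot_iff]
      rintro u ⟨hu1, hu2⟩
      exact S.free _ _ hd u hu2 hu1
    rw [← Subgroup.inf_relIndex_right, h3, Subgroup.relIndex_bot_left]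
  have h3 := Subgroup.card_mul_index ((MulAction.stabilizer G d).subgroupOf (A ⊓ MulAction.stabilizer G c))
  have h4 : Nat.card ((MulAction.stabilizer G d).subgroupOf (A ⊓ MulAction.stabilizer G c)) =
      Nat.card ↥(A ⊓ MulAction.stabilizer G c ⊓ MulAction.stabilizer G d) := by
    rw [← Subgroup.inf_subgroupOf_left]
    exact Nat.card_congr (Subgroup.subgroupOfEquivOfLe inf_le_left).toEquiv
  have h5 : ((MulAction.stabilizer G d).subgroupOf (A ⊓ MulAction.stabilizer G c)).index = Nat.card (S.U c) :=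
    h1.trans h2
  rw [h4, h5] at h3
  rw [← h3, mul_comm]

/-- **All functionals are generated by those fixed by `U d`, `d` opposite `c`** -/
theorem exists_functional [hp : Fact p.Prime] (hth : Δ.Thick) {V : Type*} [AddCommGroup V] [Module (ZMod p) V]
    [Finite V] (ρ : Representation (ZMod p) G V) (hirr : Irr ρ) {c : C} {v : V} (hv : v ≠ 0) :
    ∃ d, Δ.Opp c d ∧ ∃ f : V →ₗ[ZMod p] ZMod p, FixF ρ (S.U d) f ∧ f v ≠ 0 := by
  classical
  by_contra hcon
  push Not at hcon
  have h0 := eq_zero_of_opp S hth ρ (c := c) (v := v) hcon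
  let R : Submodule (ZMod p) V :=
    { carrier := {w | ∀ e : C, ∀ f : V →ₗ[ZMod p] ZMod p, FixF ρ (S.U e) f → f w = 0}
      add_mem' := by
        intro a b ha hb e f hf
        rw [map_add, ha e f hf, hb e f hf, add_zero]
      zero_mem' := fun e f _ => map_zero f
      smul_mem' := by
        intro r a ha e f hf
        rw [map_smul, ha e f hf, smul_zero] }
  have hR : R = ⊤ := by
    rcases hirr R (by
      intro g w hw e f hf
      have h1 : FixF ρ (S.U (g⁻¹ • e)) (f ∘ₗ ρ g) := hf.comp fun y hy => by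
        have h2 := S.conj_mem_U hy g
        rwa [smul_inv_smul] at h2
      exact hw _ _ h1) with h | h
    · exfalso
      apply hv
      have h1 : v ∈ R := h0
      rwa [h, Submodule.mem_bot] at h1
    · exact h
  have hnt : Nontrivial V := ⟨v, 0, hv⟩
  obtain ⟨l, hl⟩ := Module.Projective.exists_dual_ne_zero (ZMod p) hv
  obtain ⟨f, -, hf0, hf⟩ := exists_fix_of_pgroup ρ (S.U c) (S.isP c) ⊤ (fun _ _ _ _ => Submodule.mem_top) (by
    intro h
    have h1 : l ∈ (⊤ : Submodule (ZMod p) (V →ₗ[ZMod p] ZMod p)) := Submodule.mem_top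
    rw [h, Submodule.mem_bot] at h1
    apply hl
    rw [h1, LinearMap.zero_apply])
  apply hf0
  apply LinearMap.ext
  intro w
  have h1 : w ∈ R := by rw [hR]; trivial
  exact h1 c f hf

/-- the main step -/
theorem cop_aux [hp : Fact p.Prime] [hs : IsSimpleGroup G] [Nonempty I] (hth : Δ.Thick)
    (hab : ∀ x : C, ∀ a b : G, a • x = x → b • x = x → a * b * a⁻¹ * b⁻¹ ∈ S.U x) {c : C}
    (hnum : ∀ H : Subgroup G, MulAction.stabilizer G c ≤ H → H ≠ ⊤ → ∀ s : ℕ, s.Prime →
      s ∣ (MulAction.stabilizer G c).relIndex H → s ∣ H.index)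
    {ℓ : ℕ} [hl : Fact ℓ.Prime] {V : Type*} [AddCommGroup V] [Module (ZMod ℓ) V] [Finite V]
    {ρ : Representation (ZMod ℓ) G V} (hirr : Irr ρ) (hnt : Nontriv ρ) {A B : Subgroup G} (hA : S.U c ≤ A)
    (hcop : A.index.Coprime B.index) {a b : V} (ha : ∀ x ∈ A, ρ x a = a) (hb : ∀ x ∈ B, ρ x b = b) :
    a = 0 ∨ b = 0 := by
  classical
  by_cases ha0 : a = 0
  · exact Or.inl ha0
  by_cases hAt : A = ⊤
  · left
    subst hAt
    exact eq_zero_of_fixed hirr hnt a fun h => ha h trivial
  right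
  have hJ : tp Δ A c ≠ Set.univ := fun h => hAt (eq_top_of_tp S hth hA h)
  -- the functional
  obtain ⟨d, hd, X, hX, f, hf, hfa, hXn⟩ : ∃ d, Δ.Opp c d ∧ ∃ X : C, (X = c ∨ X = d) ∧
      ∃ f : V →ₗ[ZMod ℓ] ZMod ℓ, FixF ρ (S.U X) f ∧ f a ≠ 0 ∧ True := by
    by_cases hpl : p = ℓ
    · subst hpl
      obtain ⟨d, hd, f, hf, hfa⟩ := exists_functional S hth ρ hirr (c := c) ha0
      exact ⟨d, hd, d, Or.inr rfl, f, hf, hfa, trivial⟩
    · obtain ⟨d, hd⟩ := Δ.exists_δ c (w0 cs)
      obtain ⟨l, hl'⟩ := Module.Projective.exists_dual_ne_zero (ZMod ℓ) ha0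
      have hUc : ¬ ℓ ∣ Nat.card (S.U c) := by
        obtain ⟨m, hm⟩ := (IsPGroup.iff_card).1 (S.isP c)
        rw [hm]
        intro h
        exact hpl ((Nat.prime_dvd_prime_iff_eq hl.out hp.out).1 (hl.out.dvd_of_dvd_pow h)).symm
      obtain ⟨f, hf, hfa, -⟩ := exists_average ρ (S.U c) hUc (fun x hx => ha x (hA hx)) l hl'
      exact ⟨d, hd, c, Or.inl rfl, f, hf, hfa, trivial⟩
  -- the torus of `A`
  set T' : Subgroup G := A ⊓ MulAction.stabilizer G c ⊓ MulAction.stabilizer G d with hT'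
  have hTA : ∀ t ∈ T', t ∈ A := fun t ht => ht.1.1
  have hTc : ∀ t ∈ T', t • c = c := fun t ht => ht.1.2
  have hTd : ∀ t ∈ T', t • d = d := fun t ht => ht.2
  have hTX : ∀ t ∈ T', t • X = X := by
    rcases hX with rfl | rfl
    · exact hTc
    · exact hTd
  have hTab : ∀ x ∈ T', ∀ y ∈ T', x * y = y * x := by
    intro x hx y hy
    have h1 := hab c x y (hTc x hx) (hTc y hy)
    have h2 : (x * y * x⁻¹ * y⁻¹) • d = d :=
      hTd _ (mul_mem (mul_mem (mul_mem hx hy) (inv_mem hx)) (inv_mem hy))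
    have h3 := S.free _ _ hd _ h1 h2
    calc x * y = (x * y * x⁻¹ * y⁻¹) * (y * x) := by group
      _ = y * x := by rw [h3, one_mul]
  have hTn : ∀ t ∈ T', ∀ u ∈ S.U X, t * u * t⁻¹ ∈ S.U X := by
    intro t ht u hu
    have h1 := S.conj_mem_U hu t
    rwa [hTX t ht] at h1
  obtain ⟨f', hf'0, hf'⟩ := torus_fix ρ hTn hTab (fun t ht => ha t (hTA t ht)) hf hfa
  -- the orders
  have hcard : Nat.card ↥(A ⊓ MulAction.stabilizer G c) ∣ Nat.card ↥(S.U X ⊔ T') := by
    rw [card_inf_stab S hA hd]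
    have hcop1 : (Nat.card (S.U c)).Coprime (Nat.card T') := by
      obtain ⟨m, hm⟩ := (IsPGroup.iff_card).1 (S.isP c)
      rw [hm]
      apply Nat.Coprime.pow_left
      rw [Nat.Prime.coprime_iff_not_dvd hp.out]
      intro hdvd
      obtain ⟨x, hx⟩ := exists_prime_orderOf_dvd_card' p hdvd
      have h1 : IsPGroup p (Subgroup.zpowers (x : G)) := by
        apply IsPGroup.of_card (n := 1)
        rw [Nat.card_zpowers, pow_one, ← hx]
        exact Subgroup.orderOf_coe x
      have h2 : (x : G) ∈ S.U c := by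
        refine S.max c _ h1 ?_ (Subgroup.mem_zpowers _)
        intro y hy
        have h3 : Subgroup.zpowers (x : G) ≤ MulAction.stabilizer G c := by
          rw [Subgroup.zpowers_le]
          exact hTc _ x.2
        exact h3 hy
      have h3 := S.free _ _ hd _ h2 (hTd _ x.2)
      rw [Subtype.ext_iff.2 (show (x : G) = ((1 : T') : G) from h3), orderOf_one] at hx
      exact hp.out.one_lt.ne hx
    refine Nat.Coprime.mul_dvd_of_dvd_of_dvd hcop1 ?_ ?_
    · rw [card_U_eq S hth c X]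
      exact Subgroup.card_dvd_of_le le_sup_left
    · exact Subgroup.card_dvd_of_le le_sup_right
  have hidx : (S.U X ⊔ T').index ∣ A.index * (MulAction.stabilizer G c).relIndex A := by
    have h1 : (A ⊓ MulAction.stabilizer G c).index = A.index * (MulAction.stabilizer G c).relIndex A := by
      rw [← Subgroup.inf_relIndex_left, mul_comm, Subgroup.relIndex_mul_index inf_le_left]
    rw [← h1]
    have h2 := (S.U X ⊔ T').card_mul_index
    have h3 := (A ⊓ MulAction.stabilizer G c).card_mul_index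
    obtain ⟨k, hk⟩ := hcard
    refine ⟨k, ?_⟩
    rw [← h2, hk, mul_assoc] at h3
    have h4 := Nat.eq_of_mul_eq_mul_left Nat.card_pos h3
    rw [h4, mul_comm]
  have hcop' : B.index.Coprime (S.U X ⊔ T').index := by
    rw [Nat.coprime_comm]
    apply Nat.Coprime.coprime_dvd_left hidx
    apply Nat.Coprime.mul_left hcop
    apply Nat.Coprime.symm
    apply Nat.coprime_of_dvd
    intro s hs hsB hsA
    rw [relIndex_eq S hth hA] at hsA
    have h1 := hnum (parab S (tp Δ A c) c) (by
      intro g hg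
      rw [mem_parab, MulAction.mem_stabilizer_iff.1 hg]
      exact Δ.self_mem_Res _ _) (parab_ne_top S hth hJ c) s hs hsA
    have h2 : s ∣ A.index := h1.trans (Subgroup.index_dvd_of_le fun g hg => delta_mem_tp S hth hA g hg)
    exact hs.one_lt.ne' (Nat.eq_one_of_dvd_coprimes hcop h2 hsB)
  rcases pairing hirr hnt B (S.U X ⊔ T') hcop' b hb f' hf' with h | h
  · exact h
  · exact absurd h hf'0

/-- **The row theorem, on the building.** -/
theorem cop_of_sys [hp : Fact p.Prime] [hs : IsSimpleGroup G] [Nonempty I] (hth : Δ.Thick)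
    (hab : ∀ x : C, ∀ a b : G, a • x = x → b • x = x → a * b * a⁻¹ * b⁻¹ ∈ S.U x) (c : C)
    (hnum : ∀ H : Subgroup G, MulAction.stabilizer G c ≤ H → H ≠ ⊤ → ∀ s : ℕ, s.Prime →
      s ∣ (MulAction.stabilizer G c).relIndex H → s ∣ H.index) : CopRow G := by
  intro ℓ hl V i1 i2 i3 ρ hirr hnt
  have key : ∀ (A B : Subgroup G), A.index.Coprime B.index → ¬ p ∣ A.index → ∀ a b : V, (∀ x ∈ A, ρ x a = a) →
      (∀ x ∈ B, ρ x b = b) → a = 0 ∨ b = 0 := by
    intro A B hcop hpA a b ha hb
    obtain ⟨g, hg⟩ := exists_conj_le_of_index (S.isP c) hpA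
    have hidx : (A.map (MulAut.conj g).toMonoidHom).index = A.index := Subgroup.index_map_equiv A (MulAut.conj g)
    rcases cop_aux S hth hab hnum hirr hnt hg (by rw [hidx]; exact hcop) (a := ρ g a) (b := b) (by
      rintro _ ⟨x, hx, rfl⟩
      change ρ (g * x * g⁻¹) (ρ g a) = ρ g a
      rw [rho_mul_apply, rho_inv_apply, rho_mul_apply, ha x hx]) hb with h | h
    · left
      have := congrArg (ρ g⁻¹) h
      rwa [rho_inv_apply, map_zero] at this
    · exact Or.inr h
  intro A B hcop a b ha hb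
  by_cases hpA : p ∣ A.index
  · have hpB : ¬ p ∣ B.index := fun hpB => hp.out.one_lt.ne' (Nat.eq_one_of_dvd_coprimes hcop hpA hpB)
    exact (key B A hcop.symm hpB b a hb ha).symm
  · exact key A B hcop hpA a b ha hb

end

/-- **The row theorem**: a simple group with a split (B,N)-pair with commutative torus such that the primes dividing
`|H : B|` divide `|G : H|` for the proper overgroups `H` of `B`. -/
theorem copRow_of_split {G : Type*} [Group G] [Finite G] [hs : IsSimpleGroup G] {p : ℕ} [hp : Fact p.Prime]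
    (P : Cfsg.BNPair G) (U : Subgroup G) (hne : P.S.Nonempty) (h : Split P p U)
    (hc : ∀ x ∈ P.B, ∀ y ∈ P.B, x * y * x⁻¹ * y⁻¹ ∈ U)
    (hnum : ∀ H : Subgroup G, P.B ≤ H → H ≠ ⊤ → ∀ s : ℕ, s.Prime → s ∣ P.B.relIndex H → s ∣ H.index) :
    CopRow G := by
  have hN : ((P.B ⊓ P.N).subgroupOf P.N).Normal := Tits.OfBN.normal_subgroupOf P
  obtain ⟨M, cs, hcs⟩ := S0320.result P
  have hI : Finite P.S := FixBN.OfBN.finite_I (Equiv.refl P.S)
  have hIn : Nonempty P.S := hne.to_subtype
  have S := FixBN.OfBN.sys (Equiv.refl P.S) cs hcs h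
  have hth := Tits.OfBN.thick P (Equiv.refl P.S) cs hcs
  have hstab : MulAction.stabilizer G (QuotientGroup.mk 1 : G ⧸ P.B) = P.B := by
    ext g
    rw [MulAction.mem_stabilizer_iff, FixBN.OfBN.smul_mk_eq]
    simp
  refine cop_of_sys (FixBN.OfBN.sys (Equiv.refl P.S) cs hcs h) hth ?_ (QuotientGroup.mk 1 : G ⧸ P.B) ?_
  · intro x a b ha hb
    induction x using QuotientGroup.induction_on with
    | H g =>
      change a * b * a⁻¹ * b⁻¹ ∈ FixBN.OfBN.UU P U (QuotientGroup.mk g)
      rw [FixBN.OfBN.smul_mk_eq] at ha hb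
      rw [FixBN.OfBN.mem_UU h]
      have h1 := hc _ ha _ hb
      have e : g⁻¹ * (a * b * a⁻¹ * b⁻¹) * g = g⁻¹ * a * g * (g⁻¹ * b * g) * (g⁻¹ * a * g)⁻¹ * (g⁻¹ * b * g)⁻¹ := by
        group
      rwa [e]
  · rw [hstab]
    exact hnum

end Cfsg.Agent.H505.Cop
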