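import Mathlib
import Cfsg.Agent.H505.Cop.BldMain
import Cfsg.Agent.H934.RowOrb
import Cfsg.Agent.FixBN.SplitRGD

/-!
# Coprime orbits: the row theorem for groups with root group data with commutative torus

`copRow_of_rgd` : if for every node `i` every prime divisor of `|P_i : B|` (`P_i` the maximal parabolic subgroup of type
`{j ≠ i}`) divides `|G : P_i|`, then `CopRow G`.
-/

set_option autoImplicit false
set_option linter.unusedSectionVars false

namespace Cfsg.Agent.H505.Cop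

open CoxeterSystem Cfsg.Agent.ChevalleyStructure.CoxeterGeom Cfsg.Agent.Tits.Roots Cfsg.Agent.Tits.Core
  Cfsg.Agent.Tits.Exchange Cfsg.Agent.Nodes.Reps Cfsg.Agent.Nodes.BNOf Cfsg.Agent.Nodes.StabComb
  Cfsg.Agent.Nodes.Bruhat Cfsg.Agent.Nodes.OppDec Cfsg.Agent.Nodes.LeviDec Cfsg.Agent.FixBN Cfsg.Agent.FixBN.SplitRGD

variable {I W Y : Type*} [Fintype I] [DecidableEq I] [Group W] [Group Y] {M : CoxeterMatrix I}
  {cs : CoxeterSystem M W} {A : I → I → ℤ} {h : IsCartan M A} {p : ℕ} {T : Subgroup Y} {n : I → Y}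
  {X : (I → ℤ) → Subgroup Y}

theorem PJ_mono {J J' : Set I} (hJ : J ⊆ J') : PJ cs h T X J ≤ PJ cs h T X J' := by
  refine sup_le (sup_le (T_le_LJ.trans LJ_le_PJ) (RGD.Sup_le fun x hx => ?_)) ((VJ_le_B _).trans B_le_PJ)
  exact (X_le_LJ ⟨hx.1, fun k hk => hx.2 k fun h1 => hk (hJ h1)⟩).trans LJ_le_PJ

theorem relIndex_dvd_of_le {G : Type*} [Group G] {B H K : Subgroup G} (h1 : B ≤ H) (h2 : H ≤ K) :
    B.relIndex H ∣ B.relIndex K := by
  rw [← Subgroup.relIndex_mul_relIndex B H K h1 h2]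
  exact Dvd.intro _ rfl

/-- **The row theorem with root group data.** -/
theorem copRow_of_rgd [Finite W] [Finite Y] [Nonempty I] [hs : IsSimpleGroup Y] [hp : Fact p.Prime]
    (R : RGD cs h p T n X) (hG1 : RGD.Sup X {x | IsRoot cs h x} = ⊤) (hT : ∀ s ∈ T, ∀ t ∈ T, s * t = t * s)
    (hnum : ∀ i : I, ∀ s : ℕ, s.Prime → s ∣ (RGD.B cs h T X).relIndex (PJ cs h T X {j | j ≠ i}) →
      s ∣ (PJ cs h T X {j | j ≠ i}).index) : CopRow Y := by
  obtain ⟨i0⟩ := (inferInstance : Nonempty I)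
  have hg := NodeRGD.gen_of_top R hG1
  have hne : (R.bnPair hg).S.Nonempty := ⟨n i0, i0, rfl⟩
  have hsp := split_of_rgd hp.out R hg (Cfsg.Agent.Tits.OfBN.normalCore_eq_bot (R.bnPair hg) hne)
  have hGG : GG cs h T X = ⊤ := by
    rw [eq_top_iff, ← hG1]
    exact le_sup_right
  refine copRow_of_split (R.bnPair hg) _ hne hsp ?_ ?_
  · intro x hx y hy
    obtain ⟨u, hu, hT1⟩ := NodeRGD.cover R (show x ∈ RGD.B cs h T X from hx)
    obtain ⟨v, hv, hT2⟩ := NodeRGD.cover R (show y ∈ RGD.B cs h T X from hy)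
    set t := u⁻¹ * x with ht
    set s := v⁻¹ * y with hs
    have hx' : x = u * t := by rw [ht]; group
    have hy' : y = v * s := by rw [hs]; group
    have h1 := hsp.norm t (RGD.T_le_B hT1) v hv
    have h2 := hsp.norm s (RGD.T_le_B hT2) u⁻¹ (inv_mem hu)
    have e : x * y * x⁻¹ * y⁻¹ = u * (t * v * t⁻¹) * (s * u⁻¹ * s⁻¹) * v⁻¹ := by
      have h3 := hT t hT1 s hT2
      have h4 : t * s * t⁻¹ = s := by rw [h3]; group
      rw [hx', hy']
      calc u * t * (v * s) * (u * t)⁻¹ * (v * s)⁻¹ = u * (t * v * t⁻¹) * ((t * s * t⁻¹) * u⁻¹ * s⁻¹) * v⁻¹ := by group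
        _ = _ := by rw [h4]
    rw [e]
    exact mul_mem (mul_mem (mul_mem hu h1) h2) (inv_mem hv)
  · intro H hH hHt s hs hsd
    change RGD.B cs h T X ≤ H at hH
    change s ∣ (RGD.B cs h T X).relIndex H at hsd
    have h1 := inf_eq_PJ R hH
    rw [hGG, inf_top_eq] at h1
    obtain ⟨i, hi⟩ : ∃ i, n i ∉ H := by
      by_contra hcon
      push Not at hcon
      apply hHt
      have h2 : ({i | n i ∈ H} : Set I) = Set.univ := Set.eq_univ_of_forall hcon
      rw [h1, h2, eq_top_iff, ← hGG, ← LJ_univ]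
      exact LJ_le_PJ
    have h3 : H ≤ PJ cs h T X {j | j ≠ i} := by
      rw [h1]
      apply PJ_mono
      intro j hj e
      subst e
      exact hi hj
    exact (hnum i s hs (hsd.trans (relIndex_dvd_of_le hH h3))).trans (Subgroup.index_dvd_of_le h3)

/-- version with the index of `B` as a number -/
theorem copRow_of_rgd' [Finite W] [Finite Y] [Nonempty I] [hs : IsSimpleGroup Y] [hp : Fact p.Prime]
    (R : RGD cs h p T n X) (hG1 : RGD.Sup X {x | IsRoot cs h x} = ⊤) (hT : ∀ s ∈ T, ∀ t ∈ T, s * t = t * s)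
    (N : I → ℕ) (hN : ∀ i, Nat.card ↥(PJ cs h T X {j | j ≠ i}) = N i * Nat.card ↥(RGD.B cs h T X))
    (hnum : ∀ i : I, ∀ s : ℕ, s.Prime → s ∣ N i → s ∣ (PJ cs h T X {j | j ≠ i}).index) : CopRow Y := by
  refine copRow_of_rgd R hG1 hT fun i s hs hsd => hnum i s hs ?_
  have h1 : Nat.card ↥(RGD.B cs h T X) * (RGD.B cs h T X).relIndex (PJ cs h T X {j | j ≠ i}) =
      Nat.card ↥(PJ cs h T X {j | j ≠ i}) := by
    have h2 := Subgroup.card_mul_index ((RGD.B cs h T X).subgroupOf (PJ cs h T X {j | j ≠ i}))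
    rw [Nat.card_congr (Subgroup.subgroupOfEquivOfLe B_le_PJ).toEquiv] at h2
    exact h2
  rw [hN i, mul_comm] at h1
  rwa [← Nat.eq_of_mul_eq_mul_right Nat.card_pos h1]

end Cfsg.Agent.H505.Cop
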