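import Cfsg.Agent.H559.Row.Mathieu
import Cfsg.Agent.H537.CopSC

/-!
# Elements of order 7 of `M₂₂` are self-centralizing (helper505)
-/

set_option autoImplicit false

namespace Cfsg.Agent.H505.Cop.M22

open Subgroup Cfsg Cfsg.Agent.H537.Cop Cfsg.Agent.H559.Row

theorem sc_seven : SC 7 Spor.M22 := by
  have hf : Finite Spor.M22 := finM22'
  have hc : Nat.card Spor.M22 = 443520 := SporadicA.MathieuRecog.card_M22
  refine SC.of_nonadj (by norm_num) (by rw [hc]; norm_num) ?_
  intro x y hx hyp hy7 hxy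
  have hcop : Nat.Coprime (orderOf x) (orderOf y) := by
    rw [hx]
    exact (Nat.coprime_primes (by norm_num) hyp).2 (Ne.symm hy7)
  have ho : orderOf (x * y) = 7 * orderOf y := by
    rw [Commute.orderOf_mul_eq_mul_orderOf_of_coprime hxy hcop, hx]
  have hd : orderOf y ∣ 443520 := hc ▸ orderOf_dvd_natCard y
  have hd2 : orderOf y ∣ 2 ^ 7 * 3 ^ 2 * 5 * 7 * 11 := by
    have : (2 ^ 7 * 3 ^ 2 * 5 * 7 * 11 : ℕ) = 443520 := by norm_num
    rw [this]; exact hd
  have h1 : orderOf y = 2 ∨ orderOf y = 3 ∨ orderOf y = 5 ∨ orderOf y = 11 := by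
    rcases hyp.dvd_mul.1 hd2 with h | h
    · rcases hyp.dvd_mul.1 h with h | h
      · rcases hyp.dvd_mul.1 h with h | h
        · rcases hyp.dvd_mul.1 h with h | h
          · exact Or.inl ((Nat.prime_dvd_prime_iff_eq hyp Nat.prime_two).1 (hyp.dvd_of_dvd_pow h))
          · exact Or.inr (Or.inl ((Nat.prime_dvd_prime_iff_eq hyp Nat.prime_three).1 (hyp.dvd_of_dvd_pow h)))
        · exact Or.inr (Or.inr (Or.inl ((Nat.prime_dvd_prime_iff_eq hyp (by norm_num)).1 h)))
      · exact absurd ((Nat.prime_dvd_prime_iff_eq hyp (by norm_num)).1 h) hy7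
    · exact Or.inr (Or.inr (Or.inr ((Nat.prime_dvd_prime_iff_eq hyp (by norm_num)).1 h)))
  rcases h1 with h | h | h | h
  · exact m22_fourteen (x * y) (by rw [ho, h])
  · exact m22_twentyone (x * y) (by rw [ho, h])
  · exact m22_thirtyfive (x * y) (by rw [ho, h])
  · have h11 : Nat.card (centralizer ({y} : Set Spor.M22)) = 11 := m22_11 ⟨MulEquiv.refl _⟩ y h
    have h7 := orderOf_dvd_natCard (⟨x, mem_centralizer_singleton_iff.2 hxy⟩ : centralizer ({y} : Set Spor.M22))
    rw [Subgroup.orderOf_mk, hx, h11] at h7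
    norm_num at h7

theorem m22_7 {G : Type*} [Group G] (h : Spor.IsoM22 G) : SC 7 G := by
  obtain ⟨e⟩ := h
  exact sc_seven.congr e

end Cfsg.Agent.H505.Cop.M22
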