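import Cfsg.Agent.H505.Cop.Main
import Cfsg.Agent.H537.CopSpor
import Cfsg.Agent.H537.CopRowsB
import Cfsg.Agent.H563.KG.Fin

/-!
# Orbits of coprime lengths: all finite groups (helper505, S4174 and S4175)

The rows: alternating and classical groups, `G2`, `F4`, `3D4`, Suzuki, Ree groups (helper976, team FG), `E6`, `E7`, `2E6`
(helper563, helper976), `E8` (helper505), the Tits group and the sporadic groups (helper537 and team).
-/

set_option autoImplicit false

namespace Cfsg.Agent.H505.Cop

open Cfsg

universe u

/-- **All finite groups satisfy the coprime row.** -/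
theorem copRow (H : Type u) [Group H] [Finite H] : CopRow H :=
  copRow_all (fun _ _ _ _ h => H563.KG.row_E6 h) (fun _ _ _ _ h => H563.KG.row_E7 h)
    (fun _ _ _ _ h => H563.KG.row_TE6 h) (fun _ _ _ _ h => H537.Cop.row_tits (fun _ _ _ _ => S0000.result) h)
    (fun _ _ _ _ h => H537.Cop.copRow_sporadic (fun _ _ _ _ => S0000.result) (fun _ _ _ _ => S0000.result) h) H

end Cfsg.Agent.H505.Cop
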