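import Mathlib
import Cfsg.Agent.H505.Cop.BldMain

/-!
# Coprime orbits: split (B,N)-pairs of rank one and two
-/

set_option autoImplicit false
set_option linter.unusedSectionVars false

namespace Cfsg.Agent.H505.Cop

open Cfsg.Agent.Tits.Core Cfsg.Agent.Tits.Core.Bldg Cfsg.Agent.Tits.Exchange Cfsg.Agent.Tits
open Cfsg.Agent.FixBN Cfsg.Agent.FixBN.Cox Cfsg.Agent.Omega.ML.LieRow

section

variable {I : Type*} {M : CoxeterMatrix I} {W : Type*} [Group W] {cs : CoxeterSystem M W} {C : Type*}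
  {Δ : Bldg cs C} {G : Type*} [Group G] [MulAction G C] {p : ℕ}

variable (S : Sys Δ G p) [F : OppRes.Cox cs] [Finite G] [Finite C]

theorem relIndex_of_empty (hth : Δ.Thick) {H : Subgroup G} {c : C} (hH : S.U c ≤ H) (h : tp Δ H c = ∅) :
    (MulAction.stabilizer G c).relIndex H = 1 := by
  rw [relIndex_stab]
  have hW : WJ cs (∅ : Set I) = ⊥ := by
    unfold WJ
    rw [Set.image_empty, Subgroup.closure_empty]
  have : {y : C | ∃ g ∈ H, g • c = y} = {c} := by
    ext y
    constructor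
    · rintro ⟨g, hg, rfl⟩
      have h1 := delta_mem_tp S hth hH g hg
      rw [h, hW, Subgroup.mem_bot, Δ.eq_one] at h1
      exact h1.symm
    · rintro rfl
      exact ⟨1, one_mem _, one_smul _ _⟩
  rw [this, Set.ncard_singleton]

/-- the number of chambers `|H : G_c|`, `H` of type contained in `{i}` -/
theorem relIndex_of_subset (hth : Δ.Thick) {H : Subgroup G} {c : C} (hH : S.U c ≤ H) {i : I}
    (hi : tp Δ H c ⊆ {i}) : (MulAction.stabilizer G c).relIndex H = 1 ∨
      (MulAction.stabilizer G c).relIndex H = 1 + {y | Δ.δ c y = cs.simple i}.ncard := by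
  rcases Set.subset_singleton_iff_eq.1 hi with h | h
  · exact Or.inl (relIndex_of_empty S hth hH h)
  · right
    rw [relIndex_stab]
    have : {y : C | ∃ g ∈ H, g • c = y} = insert c {y | Δ.δ c y = cs.simple i} := by
      ext y
      constructor
      · rintro ⟨g, hg, rfl⟩
        have h1 := delta_mem_tp S hth hH g hg
        rw [h] at h1
        have h2 : g • c ∈ Δ.Res {i} c := h1
        rw [← Δ.Pan_eq_Res] at h2
        exact h2
      · intro hy
        apply exists_smul S hH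
        rw [h, ← Δ.Pan_eq_Res]
        exact hy
    rw [this, Set.ncard_insert_of_notMem, add_comm]
    intro h1
    have h2 : Δ.δ c c = cs.simple i := h1
    rw [Δ.δ_self] at h2
    have h3 := congrArg cs.length h2
    rw [cs.length_one, cs.length_simple] at h3
    exact absurd h3 (by norm_num)

end

section bn

variable {G : Type*} [Group G] [Finite G] {p : ℕ} [hp : Fact p.Prime]

/-- the number of chambers adjacent to a given one -/
theorem card_pan {P : Cfsg.BNPair G} {U : Subgroup G} (h : Split P p U) [hN : ((P.B ⊓ P.N).subgroupOf P.N).Normal]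
    {M : CoxeterMatrix P.S} (cs : CoxeterSystem M (OfBN.WP P))
    (hcs : ∀ i, cs.simple i = QuotientGroup.mk (⟨((Equiv.refl P.S i : P.S) : G), P.subset (Equiv.refl P.S i).2⟩ : P.N))
    (i : P.S) {V : Subgroup G} (hV : Schreier.BNSch.Node P U i V) :
    {y : G ⧸ P.B | (OfBN.bldg P (Equiv.refl P.S) cs hcs).δ (QuotientGroup.mk 1) y = cs.simple i}.ncard =
      V.relIndex U := by
  have hI : Finite P.S := FixBN.OfBN.finite_I (Equiv.refl P.S)
  have hs : (OfBN.bldg P (Equiv.refl P.S) cs hcs).δ (QuotientGroup.mk 1) (QuotientGroup.mk (i : G)) = cs.simple i := by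
    rw [OfBN.bldg_δ_mk, hcs]
    have e : (1 : G)⁻¹ * (i : G) = ((⟨(i : G), P.subset i.2⟩ : P.N) : G) := by simp
    rw [e]
    exact OfBN.wt_of_mem P (Cfsg.Agent.LieExceptional.BNPairCore.mem_C.2 ⟨1, one_mem _, 1, one_mem _, by simp⟩)
  have h1 : {y : G ⧸ P.B | (OfBN.bldg P (Equiv.refl P.S) cs hcs).δ (QuotientGroup.mk 1) y = cs.simple i} =
      {y | ∃ g ∈ U, g • (QuotientGroup.mk (i : G) : G ⧸ P.B) = y} := by
    ext y
    constructor
    · intro hy
      obtain ⟨u, hu, huy⟩ := (FixBN.OfBN.sys (Equiv.refl P.S) cs hcs h).exists_move (hs.trans (Eq.symm hy))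
      have hu' : u ∈ FixBN.OfBN.UU P U (QuotientGroup.mk 1) := hu
      rw [FixBN.OfBN.mem_UU h] at hu'
      exact ⟨u, by simpa using hu', huy⟩
    · rintro ⟨u, hu, rfl⟩
      have h2 : u • (QuotientGroup.mk 1 : G ⧸ P.B) = QuotientGroup.mk 1 := by
        rw [FixBN.OfBN.smul_mk_eq]
        simpa using h.le hu
      have h3 := (FixBN.OfBN.sys (Equiv.refl P.S) cs hcs h).iso u (QuotientGroup.mk 1) (QuotientGroup.mk (i : G))
      rw [h2, hs] at h3
      exact h3
  rw [h1, ← relIndex_stab]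
  have h4 : MulAction.stabilizer G (QuotientGroup.mk (i : G) : G ⧸ P.B) ⊓ U = V ⊓ U := by
    ext u
    rw [Subgroup.mem_inf, Subgroup.mem_inf, MulAction.mem_stabilizer_iff, FixBN.OfBN.smul_mk_eq]
    constructor
    · rintro ⟨h5, h6⟩
      exact ⟨hV.stab u h6 h5, h6⟩
    · rintro ⟨h5, h6⟩
      exact ⟨h.le (hV.le (hV.conj_s u h5)), h6⟩
  rw [← Subgroup.inf_relIndex_right, h4, Subgroup.inf_relIndex_right]

/-- the relative indices of the proper overgroups of `B`, in rank at most two -/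
theorem relIndex_cases [hs : IsSimpleGroup G] (P : Cfsg.BNPair G) (U : Subgroup G) {s t : G} (hS : P.S = {s, t})
    (h : Split P p U) {V V' : Subgroup G} (hV : Schreier.BNSch.Node P U s V) (hV' : Schreier.BNSch.Node P U t V')
    {H : Subgroup G} (hH : P.B ≤ H) (hHt : H ≠ ⊤) :
    P.B.relIndex H = 1 ∨ (s ≠ t ∧ (P.B.relIndex H = 1 + V.relIndex U ∨ P.B.relIndex H = 1 + V'.relIndex U)) := by
  classical
  have hsP : s ∈ P.S := by rw [hS]; exact Set.mem_insert s _
  have htP : t ∈ P.S := by rw [hS]; exact Set.mem_insert_of_mem s rfl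
  have hN : ((P.B ⊓ P.N).subgroupOf P.N).Normal := Tits.OfBN.normal_subgroupOf P
  obtain ⟨M, cs, hcs⟩ := S0320.result P
  have hI : Finite P.S := FixBN.OfBN.finite_I (Equiv.refl P.S)
  have hIn : Nonempty P.S := ⟨⟨s, hsP⟩⟩
  have hth := Tits.OfBN.thick P (Equiv.refl P.S) cs hcs
  have hstab : MulAction.stabilizer G (QuotientGroup.mk 1 : G ⧸ P.B) = P.B := by
    ext g
    rw [MulAction.mem_stabilizer_iff, FixBN.OfBN.smul_mk_eq]
    simp
  have hU : (FixBN.OfBN.sys (Equiv.refl P.S) cs hcs h).U (QuotientGroup.mk 1) ≤ H := by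
    intro u hu
    have hu' : u ∈ FixBN.OfBN.UU P U (QuotientGroup.mk 1) := hu
    rw [FixBN.OfBN.mem_UU h] at hu'
    exact hH (h.le (by simpa using hu'))
  set J := tp (OfBN.bldg P (Equiv.refl P.S) cs hcs) H (QuotientGroup.mk 1 : G ⧸ P.B) with hJdef
  have hJ : J ≠ Set.univ := fun h1 => hHt (eq_top_of_tp (FixBN.OfBN.sys (Equiv.refl P.S) cs hcs h) hth hU h1)
  have hcase : J = ∅ ∨ (s ≠ t ∧ (J ⊆ {⟨s, hsP⟩} ∨ J ⊆ {⟨t, htP⟩})) := by
    have hall : ∀ i : P.S, i = ⟨s, hsP⟩ ∨ i = ⟨t, htP⟩ := by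
      rintro ⟨i, hi⟩
      have hi' : i ∈ ({s, t} : Set G) := by rw [← hS]; exact hi
      rcases hi' with rfl | hi'
      · exact Or.inl rfl
      · exact Or.inr (Subtype.ext hi')
    by_cases h1 : (⟨s, hsP⟩ : P.S) ∈ J
    · by_cases h2 : (⟨t, htP⟩ : P.S) ∈ J
      · exfalso
        apply hJ
        rw [Set.eq_univ_iff_forall]
        intro i
        rcases hall i with rfl | rfl
        · exact h1
        · exact h2
      · right
        refine ⟨fun e => h2 (by subst e; exact h1), Or.inl ?_⟩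
        intro i hi
        rcases hall i with rfl | rfl
        · rfl
        · exact absurd hi h2
    · by_cases h2 : (⟨t, htP⟩ : P.S) ∈ J
      · right
        refine ⟨fun e => h1 (by subst e; exact h2), Or.inr ?_⟩
        intro i hi
        rcases hall i with rfl | rfl
        · exact absurd hi h1
        · rfl
      · left
        rw [Set.eq_empty_iff_forall_notMem]
        intro i hi
        rcases hall i with rfl | rfl
        · exact h1 hi
        · exact h2 hi
  rcases hcase with h1 | ⟨hst, h1 | h1⟩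
  · left
    have h2 := relIndex_of_empty (FixBN.OfBN.sys (Equiv.refl P.S) cs hcs h) hth hU h1
    rwa [hstab] at h2
  · have h2 := relIndex_of_subset (FixBN.OfBN.sys (Equiv.refl P.S) cs hcs h) hth hU h1
    rw [hstab, card_pan h cs hcs ⟨s, hsP⟩ hV] at h2
    rcases h2 with h2 | h2
    · exact Or.inl h2
    · exact Or.inr ⟨hst, Or.inl h2⟩
  · have h2 := relIndex_of_subset (FixBN.OfBN.sys (Equiv.refl P.S) cs hcs h) hth hU h1
    rw [hstab, card_pan h cs hcs ⟨t, htP⟩ hV'] at h2
    rcases h2 with h2 | h2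
    · exact Or.inl h2
    · exact Or.inr ⟨hst, Or.inr h2⟩

/-- **Rank one.** -/
theorem copRow_of_split_one [hs : IsSimpleGroup G] (P : Cfsg.BNPair G) (U : Subgroup G) {s : G} (hS : P.S = {s})
    (h : Split P p U) (hc : ∀ x ∈ P.B, ∀ y ∈ P.B, x * y * x⁻¹ * y⁻¹ ∈ U) : CopRow G := by
  have hsP : s ∈ P.S := by rw [hS]; rfl
  obtain ⟨V, hV⟩ := h.node s hsP
  refine copRow_of_split P U ⟨s, hsP⟩ h hc ?_
  intro H hH hHt r hr hrd
  rcases relIndex_cases P U (s := s) (t := s) (by rw [hS, Set.pair_eq_singleton]) h hV hV hH hHt with h1 | ⟨h1, -⟩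
  · rw [h1] at hrd
    exact absurd (Nat.dvd_one.1 hrd) hr.one_lt.ne'
  · exact absurd rfl h1

/-- **Rank two.** -/
theorem copRow_of_split_two [hs : IsSimpleGroup G] (P : Cfsg.BNPair G) (U : Subgroup G) {s t : G}
    (hS : P.S = {s, t}) (h : Split P p U) (hc : ∀ x ∈ P.B, ∀ y ∈ P.B, x * y * x⁻¹ * y⁻¹ ∈ U) {V V' : Subgroup G}
    (hV : Schreier.BNSch.Node P U s V) (hV' : Schreier.BNSch.Node P U t V')
    (h1 : ∀ r : ℕ, r.Prime → r ∣ 1 + V.relIndex U → r * (1 + V.relIndex U) ∣ P.B.index)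
    (h2 : ∀ r : ℕ, r.Prime → r ∣ 1 + V'.relIndex U → r * (1 + V'.relIndex U) ∣ P.B.index) : CopRow G := by
  have hsP : s ∈ P.S := by rw [hS]; exact Set.mem_insert s _
  refine copRow_of_split P U ⟨s, hsP⟩ h hc ?_
  intro H hH hHt r hr hrd
  have key : ∀ m : ℕ, 0 < m → (r ∣ m → r * m ∣ P.B.index) → P.B.relIndex H = m → r ∣ H.index := by
    intro m hm h3 h4
    have h5 := h3 (by rwa [h4] at hrd)
    rw [← Subgroup.relIndex_mul_index hH, h4, mul_comm m] at h5
    exact Nat.dvd_of_mul_dvd_mul_right hm h5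
  rcases relIndex_cases P U hS h hV hV' hH hHt with h3 | ⟨-, h3 | h3⟩
  · rw [h3] at hrd
    exact absurd (Nat.dvd_one.1 hrd) hr.one_lt.ne'
  · exact key _ (by omega) (h1 r hr) h3
  · exact key _ (by omega) (h2 r hr) h3

end bn

end Cfsg.Agent.H505.Cop
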